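import Mathlib
import Cfsg.Agent.Lib.OddOrder.Final.Main
import Cfsg.Agent.Lib.LocalEvenB.CyclicIntersections.Basic
import Cfsg.Agent.S3559
import Cfsg.Agent.S3972
import Cfsg.Agent.S0675

/-!
# Cyclic regular subgroups and Z-group stabilisers: general facts

Solvability of a product with a cyclic factor of odd order, the centraliser of a regular abelian
subgroup, and the theorem of Burnside and Schur in the form used for the factorisations.
-/

set_option autoImplicit false

namespace CfsgLib.Factorization.CyclicZ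

open MulAction

universe u v

/-- A group whose order differs by an odd factor from that of a Z-subgroup is solvable. -/
theorem isSolvable_of_odd_index {G : Type u} [Group G] [Finite G] (B : Subgroup G) [IsZGroup B]
    (h : Odd B.index) : Group.IsSolvable G := by
  haveI : Fact (Nat.Prime 2) := ⟨Nat.prime_two⟩
  obtain ⟨P⟩ : Nonempty (Sylow 2 B) := inferInstance
  have hP' : IsPGroup 2 ((P : Subgroup B).map B.subtype) := P.isPGroup'.map _
  have hni : ¬ 2 ∣ ((P : Subgroup B).map B.subtype).index := by
    rw [Subgroup.index_map_subtype]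
    intro hd
    rcases (Nat.prime_two.dvd_mul.mp hd) with hd | hd
    · exact P.not_dvd_index hd
    · exact (Nat.not_even_iff_odd.mpr h) (even_iff_two_dvd.mpr hd)
  let Q : Sylow 2 G := hP'.toSylow hni
  haveI : IsCyclic (P : Subgroup B) := inferInstance
  have hQ : IsCyclic (Q : Subgroup G) :=
    ((P : Subgroup B).equivMapOfInjective B.subtype B.subtype_injective).isCyclic.mp inferInstance
  exact CfsgLib.LocalEvenB.CyclicInter.isSolvable_of_cyclic_sylow
    CfsgLib.OddOrder.Final.oddSolvable.{u} Q hQ

/-- A product of a cyclic group of odd order with a Z-group is solvable. -/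
theorem isSolvable_of_odd_mul {G : Type u} [Group G] [Finite G] (A B : Subgroup G) [IsZGroup B]
    (hAB : ∀ g : G, ∃ a ∈ A, ∃ b ∈ B, g = a * b) (h : Odd (Nat.card A)) : Group.IsSolvable G := by
  refine isSolvable_of_odd_index B (Odd.of_dvd_nat h ?_)
  haveI : IsPretransitive A (G ⧸ B) := ⟨by
    suffices ∀ x : G ⧸ B, ∃ a : A, a • ((1 : G) : G ⧸ B) = x by
      intro x y
      obtain ⟨a, ha⟩ := this x
      obtain ⟨b, hb⟩ := this y
      exact ⟨b * a⁻¹, by rw [mul_smul, ← ha, inv_smul_smul, hb]⟩
    intro x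
    obtain ⟨g, rfl⟩ := QuotientGroup.mk_surjective x
    obtain ⟨a, ha, b, hb, rfl⟩ := hAB g
    refine ⟨⟨a, ha⟩, ?_⟩
    show ((a * 1 : G) : G ⧸ B) = _
    rw [QuotientGroup.eq]
    simpa using hb⟩
  have h1 := Subgroup.card_mul_index (stabilizer A ((1 : G) : G ⧸ B))
  rw [index_stabilizer_of_transitive A ((1 : G) : G ⧸ B)] at h1
  exact Dvd.intro_left _ h1

section Regular

variable {G : Type u} {Ω : Type v} [Group G] [MulAction G Ω]

/-- `A` acts regularly. -/
structure IsRegularSub (A : Subgroup G) (Ω : Type v) [MulAction G Ω] : Prop where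
  trans : ∀ x y : Ω, ∃ a ∈ A, a • x = y
  free : ∀ a ∈ A, ∀ x : Ω, a • x = x → a = 1

theorem IsRegularSub.card_eq {A : Subgroup G} (h : IsRegularSub A Ω) (o : Ω) :
    Nat.card A = Nat.card Ω := by
  refine Nat.card_congr (Equiv.ofBijective (fun a : A => (a : G) • o) ⟨fun a b e => ?_, fun y => ?_⟩)
  · have e' : (a : G) • o = (b : G) • o := e
    have := h.free _ (A.mul_mem (A.inv_mem b.2) a.2) o (by rw [mul_smul, e', inv_smul_smul])
    exact Subtype.ext (inv_mul_eq_one.mp this).symm
  · obtain ⟨a, ha, e⟩ := h.trans o y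
    exact ⟨⟨a, ha⟩, e⟩

/-- The centraliser of a regular abelian subgroup is the subgroup itself. -/
theorem IsRegularSub.mem_of_commute [FaithfulSMul G Ω] [Nonempty Ω] {A : Subgroup G}
    (h : IsRegularSub A Ω) (hA : ∀ a ∈ A, ∀ b ∈ A, a * b = b * a) {g : G}
    (hg : ∀ a ∈ A, g * a = a * g) : g ∈ A := by
  obtain ⟨o⟩ := ‹Nonempty Ω›
  obtain ⟨a, ha, e⟩ := h.trans o (g • o)
  suffices g = a by rwa [this]
  refine eq_of_smul_eq_smul (α := Ω) fun x => ?_
  obtain ⟨b, hb, rfl⟩ := h.trans o x
  rw [← mul_smul, hg b hb, mul_smul, ← e, ← mul_smul, ← hA a ha b hb, mul_smul]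

end Regular

/-- Burnside and Schur: a primitive nonsolvable group with a regular cyclic subgroup is doubly
transitive. -/
theorem two_pretransitive {α : Type v} [Fintype α] [DecidableEq α] (G : Subgroup (Equiv.Perm α))
    [IsPretransitive G α] (hprim : IsPreprimitive G α) (hn : ¬ Group.IsSolvable G)
    (A : Subgroup G) (hA : IsCyclic A) (hreg : IsRegularSub A α) :
    IsMultiplyPretransitive G α 2 := by
  classical
  have hne : Nonempty α := by
    by_contra he
    rw [not_nonempty_iff] at he
    haveI : Subsingleton G := ⟨fun a b => Subtype.ext (Subsingleton.elim _ _)⟩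
    exact hn inferInstance
  obtain ⟨o⟩ := hne
  haveI : Nonempty α := ⟨o⟩
  have hcard : Nat.card A = Fintype.card α := (hreg.card_eq o).trans Nat.card_eq_fintype_card
  have hn2 : 2 ≤ Fintype.card α := by
    by_contra hlt
    haveI : Subsingleton α := Fintype.card_le_one_iff_subsingleton.mp (by omega)
    haveI : Subsingleton G := ⟨fun a b => Subtype.ext (Subsingleton.elim _ _)⟩
    exact hn inferInstance
  by_cases hp : IsPrimePow (Fintype.card α)
  · obtain ⟨p, m, hp, hm, hpm⟩ := (isPrimePow_nat_iff _).mp hp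
    by_cases hm1 : m = 1
    · subst hm1
      rw [pow_one] at hpm
      exact (Cfsg.Agent.S0675.result (hpm ▸ hp) G).resolve_left hn
    · by_contra h2
      obtain ⟨g, hg⟩ := hA.exists_generator
      have hord : orderOf (g : G) = p ^ m := by
        rw [Subgroup.orderOf_coe, orderOf_eq_card_of_forall_mem_zpowers hg, hcard, hpm]
      exact (Cfsg.Agent.S3972.result p m hp (by omega) hpm.symm G ‹_› h2 (g : G) hord).1 hprim
  · refine (Cfsg.Agent.S3559.result (G := G) (Ω := α) ‹_› (by rwa [Nat.card_eq_fintype_card])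
      (by rwa [Nat.card_eq_fintype_card]) A hA ⟨⟨fun x y => ?_⟩, fun a => ?_⟩).resolve_left
      (not_not.mpr hprim)
    · obtain ⟨c, hc, e⟩ := hreg.trans x y
      exact ⟨⟨c, hc⟩, e⟩
    · rw [Subgroup.eq_bot_iff_forall]
      intro c hc
      exact Subtype.ext (hreg.free _ c.2 a hc)

end CfsgLib.Factorization.CyclicZ
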