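import Mathlib
import Cfsg.Agent.Lib.Factorization.CyclicZGroup.Basic

/-!
# Doubly transitive groups with a regular cyclic subgroup and Z-group stabilisers: pairs

The derived subgroup of a stabiliser is semiregular on the other points, two-point stabilisers are
cyclic and contain exactly one involution.
-/

set_option autoImplicit false

namespace CfsgLib.Factorization.CyclicZ

open MulAction
open scoped commutatorElement

universe u v

theorem eq_of_involutions {H : Type u} [Group H] [Finite H] [IsCyclic H] {x y : H} (hx : x ≠ 1)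
    (hx2 : x * x = 1) (hy : y ≠ 1) (hy2 : y * y = 1) : x = y := by
  classical
  letI := Fintype.ofFinite H
  have hox : orderOf x = 2 := orderOf_eq_prime (by rw [pow_two]; exact hx2) hx
  have hoy : orderOf y = 2 := orderOf_eq_prime (by rw [pow_two]; exact hy2) hy
  have hd : 2 ∣ Fintype.card H := by rw [← hox]; exact orderOf_dvd_card
  have hc := IsCyclic.card_orderOf_eq_totient (α := H) hd
  rw [Nat.totient_two, Finset.card_eq_one] at hc
  obtain ⟨z, hz⟩ := hc
  have h1 : x = z := by
    rw [← Finset.mem_singleton, ← hz, Finset.mem_filter]; exact ⟨Finset.mem_univ _, hox⟩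
  have h2 : y = z := by
    rw [← Finset.mem_singleton, ← hz, Finset.mem_filter]; exact ⟨Finset.mem_univ _, hoy⟩
  rw [h1, h2]

theorem conj_mem_zpowers {H : Type u} [Group H] [Finite H] [IsCyclic H] (σ : H ≃* H) (a : H) :
    σ a ∈ Subgroup.zpowers a := by
  obtain ⟨m, hm⟩ := MonoidHom.map_cyclic σ.toMonoidHom
  exact Subgroup.mem_zpowers_iff.mpr ⟨m, (hm a).symm⟩

variable {α : Type v} [Fintype α] [DecidableEq α]

/-- The hypotheses. -/
structure Setup (G : Subgroup (Equiv.Perm α)) (A : Subgroup G) : Prop where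
  h2 : IsMultiplyPretransitive G α 2
  cyc : IsCyclic A
  reg : IsRegularSub A α
  zgrp : ∀ x : α, IsZGroup (stabilizer G x)
  nsol : ¬ Group.IsSolvable G

namespace Setup

variable {G : Subgroup (Equiv.Perm α)} {A : Subgroup G} (S : Setup G A)
include S

theorem nonempty : Nonempty α := by
  by_contra he
  rw [not_nonempty_iff] at he
  haveI : Subsingleton G := ⟨fun a b => Subtype.ext (Subsingleton.elim _ _)⟩
  exact S.nsol inferInstance

theorem pretrans : IsPretransitive G α :=
  ⟨fun x y => by obtain ⟨a, -, e⟩ := S.reg.trans x y; exact ⟨a, e⟩⟩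

theorem exists_pair {x y x' y' : α} (h : x ≠ y) (h' : x' ≠ y') :
    ∃ g : G, g • x = x' ∧ g • y = y' := MulAction.is_two_pretransitive_iff.mp S.h2 h h'

theorem card_mul (x : α) : Fintype.card α * Nat.card (stabilizer G x) = Nat.card G := by
  haveI := S.pretrans
  have := Subgroup.index_mul_card (stabilizer G x)
  rwa [index_stabilizer_of_transitive G x, Nat.card_eq_fintype_card (α := α)] at this

theorem card_A : Nat.card A = Fintype.card α := by
  obtain ⟨o⟩ := S.nonempty
  rw [S.reg.card_eq o, Nat.card_eq_fintype_card]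

theorem even_card : Even (Fintype.card α) := by
  by_contra h
  obtain ⟨o⟩ := S.nonempty
  haveI := S.pretrans
  haveI := S.zgrp o
  exact S.nsol (isSolvable_of_odd_index (stabilizer G o) (by
    rw [index_stabilizer_of_transitive G o, Nat.card_eq_fintype_card]
    exact Nat.not_even_iff_odd.mp h))

theorem even_stab (x : α) : 2 ∣ Nat.card (stabilizer G x) := by
  by_contra h
  haveI := S.cyc
  refine S.nsol (isSolvable_of_odd_index A ?_)
  have h1 := Subgroup.card_mul_index A
  rw [S.card_A, ← S.card_mul x] at h1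
  have h0 : 0 < Fintype.card α := Fintype.card_pos_iff.mpr S.nonempty
  rw [Nat.eq_of_mul_eq_mul_left h0 h1]
  exact Nat.not_even_iff_odd.mp fun e => h e.two_dvd

/-- The derived subgroup of a point stabiliser. -/
def F (_ : Setup G A) (x : α) : Subgroup G :=
  (commutator (stabilizer G x)).map (stabilizer G x).subtype

theorem F_le (x : α) : S.F x ≤ stabilizer G x := Subgroup.map_subtype_le _

theorem F_cyclic (x : α) : IsCyclic (S.F x) := by
  haveI := S.zgrp x
  haveI := IsZGroup.isCyclic_commutator (G := stabilizer G x)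
  exact ((commutator (stabilizer G x)).equivMapOfInjective _
    (stabilizer G x).subtype_injective).isCyclic.mp inferInstance

theorem F_comm (x : α) {a b : G} (ha : a ∈ S.F x) (hb : b ∈ S.F x) : a * b = b * a := by
  haveI := S.F_cyclic x
  letI : CommGroup (S.F x) := IsCyclic.commGroup
  exact congrArg Subtype.val (mul_comm (⟨a, ha⟩ : S.F x) ⟨b, hb⟩)

theorem F_conj {x : α} {g a : G} (hg : g • x = x) (ha : a ∈ S.F x) : g * a * g⁻¹ ∈ S.F x := by
  obtain ⟨c, hc, rfl⟩ := ha
  exact ⟨⟨g, hg⟩ * c * ⟨g, hg⟩⁻¹, (inferInstance : (commutator (stabilizer G x)).Normal).conj_mem c hc ⟨g, hg⟩, rfl⟩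

theorem commutator_mem {x : α} {g h : G} (hg : g • x = x) (hh : h • x = x) :
    g * h * g⁻¹ * h⁻¹ ∈ S.F x :=
  ⟨⁅(⟨g, hg⟩ : stabilizer G x), ⟨h, hh⟩⁆,
    Subgroup.commutator_mem_commutator (Subgroup.mem_top _) (Subgroup.mem_top _), rfl⟩

theorem conj_zpowers {x : α} {g a : G} (hg : g • x = x) (ha : a ∈ S.F x) :
    g * a * g⁻¹ ∈ Subgroup.zpowers a := by
  haveI := S.F_cyclic x
  let σ : S.F x ≃* S.F x :=
    { toFun := fun b => ⟨g * b * g⁻¹, S.F_conj hg b.2⟩
      invFun := fun b => ⟨g⁻¹ * b * g, by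
        have := S.F_conj (g := g⁻¹) (by rw [inv_smul_eq_iff, hg]) b.2
        rwa [inv_inv] at this⟩
      left_inv := fun b => Subtype.ext (by simp only; group)
      right_inv := fun b => Subtype.ext (by simp only; group)
      map_mul' := fun b c => Subtype.ext (by simp only [Subgroup.coe_mul]; group) }
  obtain ⟨m, hm⟩ := Subgroup.mem_zpowers_iff.mp (conj_mem_zpowers σ ⟨a, ha⟩)
  exact Subgroup.mem_zpowers_iff.mpr ⟨m, by simpa [σ] using congrArg Subtype.val hm⟩

/-- The derived subgroup of a stabiliser is semiregular on the other points. -/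
theorem F_free {x y : α} {a : G} (ha : a ∈ S.F x) (hy : y ≠ x) (hay : a • y = y) : a = 1 := by
  refine eq_of_smul_eq_smul (α := α) fun z => ?_
  rw [one_smul]
  by_cases hz : z = x
  · rw [hz]; exact S.F_le x ha
  obtain ⟨g, hgx, hgy⟩ := S.exists_pair hy.symm (Ne.symm hz)
  have hgx' : g⁻¹ • x = x := by rw [inv_smul_eq_iff, hgx]
  obtain ⟨m, hm⟩ := Subgroup.mem_zpowers_iff.mp (S.conj_zpowers hgx' ha)
  have h1 : (g⁻¹ * a * g⁻¹⁻¹) • y = y := by
    rw [← hm]
    exact (stabilizer G y).zpow_mem hay m
  rw [inv_inv, mul_smul, mul_smul, hgy, inv_smul_eq_iff, hgy] at h1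
  exact h1

theorem F_card_dvd (x : α) : Nat.card (S.F x) ∣ Fintype.card α - 1 := by
  classical
  let Ω := {y : α // y ≠ x}
  letI : MulAction (S.F x) Ω :=
    { smul := fun a y => ⟨(a : G) • (y : α), fun e => y.2 (by
        have h1 := congrArg ((a : G)⁻¹ • ·) e
        simp only [inv_smul_smul] at h1
        rw [h1, inv_smul_eq_iff]
        exact (S.F_le x a.2).symm)⟩
      one_smul := fun y => Subtype.ext (one_smul G (y : α))
      mul_smul := fun a b y => Subtype.ext (mul_smul (a : G) (b : G) (y : α)) }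
  have hfree : ∀ y : Ω, stabilizer (S.F x) y = ⊥ := by
    intro y
    rw [Subgroup.eq_bot_iff_forall]
    intro a ha
    exact Subtype.ext (S.F_free a.2 y.2 (congrArg Subtype.val (show a • y = y from ha)))
  have e := Nat.card_congr (MulAction.selfEquivSigmaOrbitsQuotientStabilizer (S.F x) Ω)
  rw [Nat.card_sigma] at e
  have hq : ∀ ω : orbitRel.Quotient (S.F x) Ω,
      Nat.card ((S.F x) ⧸ stabilizer (S.F x) ω.out) = Nat.card (S.F x) := by
    intro ω
    rw [← Subgroup.index_eq_card, hfree, Subgroup.index_bot]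
  rw [Finset.sum_congr rfl (fun ω _ => hq ω), Finset.sum_const, smul_eq_mul] at e
  have hc : Nat.card Ω = Fintype.card α - 1 := by
    rw [Nat.card_eq_fintype_card]
    simp [Ω, Fintype.card_subtype_compl]
  rw [← hc, e]
  exact Dvd.intro_left _ rfl

theorem F_odd (x : α) : Odd (Nat.card (S.F x)) := by
  have h1 : 0 < Fintype.card α := Fintype.card_pos_iff.mpr ⟨x⟩
  have h2 := S.even_card
  refine Odd.of_dvd_nat ?_ (S.F_card_dvd x)
  rw [Nat.odd_iff]; rw [Nat.even_iff] at h2; omega

/-- Two-point stabilisers are cyclic. -/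
theorem pair_cyclic {x y : α} (h : x ≠ y) : IsCyclic ↥(stabilizer G x ⊓ stabilizer G y) := by
  haveI := S.zgrp x
  haveI : IsCyclic (Abelianization (stabilizer G x)) := inferInstance
  let φ : ↥(stabilizer G x ⊓ stabilizer G y) →* Abelianization (stabilizer G x) :=
    Abelianization.of.comp (Subgroup.inclusion inf_le_left)
  refine isCyclic_of_injective φ ?_
  rw [← MonoidHom.ker_eq_bot_iff, Subgroup.eq_bot_iff_forall]
  intro g hg
  have hg' : Subgroup.inclusion inf_le_left g ∈ commutator (stabilizer G x) := by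
    rw [← Abelianization.ker_of]; exact hg
  exact Subtype.ext (S.F_free ⟨_, hg', rfl⟩ h.symm g.2.2)

theorem pair_comm {x y : α} (h : x ≠ y) {g k : G} (gx : g • x = x) (gy : g • y = y)
    (kx : k • x = x) (ky : k • y = y) : g * k = k * g := by
  haveI := S.pair_cyclic h
  letI : CommGroup ↥(stabilizer G x ⊓ stabilizer G y) := IsCyclic.commGroup
  exact congrArg Subtype.val
    (mul_comm (⟨g, gx, gy⟩ : ↥(stabilizer G x ⊓ stabilizer G y)) ⟨k, kx, ky⟩)

/-- An involution fixing two points is determined by them. -/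
theorem tau_unique {x y : α} (h : x ≠ y) {s t : G} (hs : s ≠ 1) (hs2 : s * s = 1)
    (hsx : s • x = x) (hsy : s • y = y) (ht : t ≠ 1) (ht2 : t * t = 1) (htx : t • x = x)
    (hty : t • y = y) : s = t := by
  haveI := S.pair_cyclic h
  have h1 := eq_of_involutions
    (x := (⟨s, hsx, hsy⟩ : ↥(stabilizer G x ⊓ stabilizer G y))) (y := ⟨t, htx, hty⟩)
    (fun e => hs (congrArg Subtype.val e)) (Subtype.ext hs2)
    (fun e => ht (congrArg Subtype.val e)) (Subtype.ext ht2)
  exact congrArg Subtype.val h1

/-- An involution fixing a point fixes a second one. -/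
theorem exists_second {x : α} {t : G} (ht2 : t * t = 1) (htx : t • x = x) :
    ∃ y, y ≠ x ∧ t • y = y := by
  classical
  by_contra hc
  push Not at hc
  haveI : Fact (Nat.Prime 2) := ⟨Nat.prime_two⟩
  have hp : IsPGroup 2 (Subgroup.zpowers t) :=
    IsPGroup.of_card_dvd_pow (n := 1) (by
      rw [Nat.card_zpowers, pow_one]; exact orderOf_dvd_of_pow_eq_one (by rw [pow_two, ht2]))
  have h1 := hp.card_modEq_card_fixedPoints α
  have hfix : fixedPoints (Subgroup.zpowers t) α = {x} := by
    ext y
    simp only [mem_fixedPoints, Set.mem_singleton_iff]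
    constructor
    · intro hy
      by_contra hne
      exact hc y hne (hy ⟨t, Subgroup.mem_zpowers t⟩)
    · rintro rfl ⟨g, m, rfl⟩
      exact (stabilizer G y).zpow_mem htx m
  rw [hfix, Nat.card_eq_fintype_card, Nat.card_coe_set_eq, Set.ncard_singleton] at h1
  have h2 := S.even_card
  rw [Nat.even_iff] at h2
  unfold Nat.ModEq at h1
  omega

/-- Every pair of points is fixed by an involution. -/
theorem exists_tau {x y : α} (h : x ≠ y) : ∃ t : G, t ≠ 1 ∧ t * t = 1 ∧ t • x = x ∧ t • y = y := by
  haveI := Fact.mk Nat.prime_two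
  obtain ⟨t, ht⟩ := exists_prime_orderOf_dvd_card' (G := stabilizer G x) 2 (S.even_stab x)
  have ht2 : (t : G) * t = 1 := by
    have := pow_orderOf_eq_one t
    rw [ht, pow_two] at this
    exact congrArg Subtype.val this
  have ht1 : (t : G) ≠ 1 := by
    intro e
    rw [show t = 1 from Subtype.ext e, orderOf_one] at ht
    exact absurd ht (by norm_num)
  obtain ⟨z, hz, hzt⟩ := S.exists_second ht2 t.2
  obtain ⟨g, hg1, hg2⟩ := S.exists_pair hz.symm h
  refine ⟨g * t * g⁻¹, ?_, ?_, ?_, ?_⟩
  · intro e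
    exact ht1 (conj_eq_one_iff.mp e)
  · rw [show g * t * g⁻¹ * (g * t * g⁻¹) = g * ((t : G) * t) * g⁻¹ by group, ht2]; group
  · rw [mul_smul, mul_smul, inv_smul_eq_iff.mpr hg1.symm, show (t : G) • x = x from t.2, hg1]
  · rw [mul_smul, mul_smul, ← hg2, inv_smul_smul, hzt]

end Setup

end CfsgLib.Factorization.CyclicZ
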