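import Mathlib
import Cfsg.Agent.Lib.Recognition.Zassenhaus.Core
import Cfsg.Agent.Lib.Factorization.CyclicZGroup.Pairs

/-!
# The involution attached to the regular cyclic subgroup

`u` is the involution of the regular cyclic subgroup, `o` a point, `t` the involution fixing `o`
and `u • o`.  The fixed points of `t` are the orbit of `o` under `A ∩ C(t)`.
-/

set_option autoImplicit false

namespace CfsgLib.Factorization.CyclicZ

open MulAction

universe u v

variable {α : Type v} [Fintype α] [DecidableEq α]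

/-- A base: the point and the two involutions. -/
structure Base (G : Subgroup (Equiv.Perm α)) (A : Subgroup G) (o : α) (u t : G) : Prop
    extends Setup G A where
  uA : u ∈ A
  u1 : u ≠ 1
  u2 : u * u = 1
  t1 : t ≠ 1
  t2 : t * t = 1
  to' : t • o = o
  tuo : t • (u • o) = u • o

theorem exists_base {G : Subgroup (Equiv.Perm α)} {A : Subgroup G} (S : Setup G A) (o : α) :
    ∃ u t : G, Base G A o u t := by
  haveI := Fact.mk Nat.prime_two
  obtain ⟨⟨u, hu⟩, hu'⟩ := exists_prime_orderOf_dvd_card' (G := A) 2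
    (by rw [S.card_A]; exact S.even_card.two_dvd)
  have hu1 : u ≠ 1 := by
    intro e
    rw [show (⟨u, hu⟩ : A) = 1 from Subtype.ext e, orderOf_one] at hu'
    exact absurd hu' (by norm_num)
  have hu2 : u * u = 1 := by
    have := pow_orderOf_eq_one (⟨u, hu⟩ : A)
    rw [hu', pow_two] at this
    exact congrArg Subtype.val this
  have hne : o ≠ u • o := fun e => hu1 (S.reg.free u hu o e.symm)
  obtain ⟨t, ht1, ht2, hto, htu⟩ := S.exists_tau hne
  exact ⟨u, t, ⟨S, hu, hu1, hu2, ht1, ht2, hto, htu⟩⟩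

namespace Base

variable {G : Subgroup (Equiv.Perm α)} {A : Subgroup G} {o : α} {u t : G} (S : Base G A o u t)
include S

theorem five_le : 5 ≤ Fintype.card α := by
  by_contra h
  haveI := CfsgLib.Recognition.Zassenhaus.perm_solvable α (by rw [Nat.card_eq_fintype_card]; omega)
  exact S.nsol inferInstance

theorem t_inv : t⁻¹ = t := inv_eq_of_mul_eq_one_right S.t2

theorem u_inv : u⁻¹ = u := inv_eq_of_mul_eq_one_right S.u2

theorem u_free (x : α) : u • x ≠ x := fun e => S.u1 (S.reg.free u S.uA x e)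

theorem ou : o ≠ u • o := (S.u_free o).symm

theorem uu (x : α) : u • u • x = x := by rw [← mul_smul, S.u2, one_smul]

theorem A_comm {a b : G} (ha : a ∈ A) (hb : b ∈ A) : a * b = b * a := by
  haveI := S.cyc
  letI : CommGroup A := IsCyclic.commGroup
  exact congrArg Subtype.val (mul_comm (⟨a, ha⟩ : A) ⟨b, hb⟩)

/-- A map sending two fixed points of `t` to fixed points of `t` commutes with `t`. -/
theorem comm_of_fix {g : G} {x y : α} (h : x ≠ y) (hx : t • x = x) (hy : t • y = y)
    (hgx : t • (g • x) = g • x) (hgy : t • (g • y) = g • y) : g * t = t * g := by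
  have h1 : g * t * g⁻¹ = t := by
    refine S.tau_unique (x := g • x) (y := g • y) ((MulAction.injective g).ne h) ?_ ?_ ?_ ?_ S.t1
      S.t2 hgx hgy
    · exact fun e => S.t1 (conj_eq_one_iff.mp e)
    · rw [show g * t * g⁻¹ * (g * t * g⁻¹) = g * (t * t) * g⁻¹ by group, S.t2]; group
    · rw [mul_smul, mul_smul, inv_smul_smul, hx]
    · rw [mul_smul, mul_smul, inv_smul_smul, hy]
  exact mul_inv_eq_iff_eq_mul.mp h1

theorem tu : t * u = u * t :=
  (S.comm_of_fix S.ou S.to' S.tuo S.tuo (by rw [S.uu]; exact S.to')).symm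

theorem comm_smul {g : G} (hg : g * t = t * g) {x : α} (hx : t • x = x) : t • g • x = g • x := by
  rw [← mul_smul, ← hg, mul_smul, hx]

/-- Elements of `A` keeping `o` among the fixed points of `t` centralise `t`. -/
theorem A_comm_of_fix {a : G} (ha : a ∈ A) (h : t • a • o = a • o) : a * t = t * a := by
  refine S.comm_of_fix S.ou S.to' S.tuo h ?_
  rw [← mul_smul a u, S.A_comm ha S.uA, mul_smul]
  exact S.comm_smul S.tu.symm h

theorem exists_fix (x : α) (hx : t • x = x) : ∃ a ∈ A, a * t = t * a ∧ a • o = x := by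
  obtain ⟨a, ha, rfl⟩ := S.reg.trans o x
  exact ⟨a, ha, S.A_comm_of_fix ha hx, rfl⟩

/-- `g` fixing `o` is the product of an element of the derived subgroup and of an element
centralising `t`. -/
theorem exists_decomp {g : G} (hg : g • o = o) :
    ∃ z ∈ S.F o, (z⁻¹ * g) * t = t * (z⁻¹ * g) := by
  set s := g * t * g⁻¹ with hs
  set f := s * t with hf
  have hfF : f ∈ S.F o := by
    have := S.commutator_mem hg S.to'
    rwa [S.t_inv] at this
  have hs2 : s * s = 1 := by
    rw [hs, show g * t * g⁻¹ * (g * t * g⁻¹) = g * (t * t) * g⁻¹ by group, S.t2]; group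
  have htf : t * f * t⁻¹ = f⁻¹ := by
    rw [hf, mul_inv_rev, S.t_inv, inv_eq_of_mul_eq_one_right hs2]
    simp only [mul_assoc, S.t2, mul_one]
  obtain ⟨m, hm⟩ := S.F_odd o
  have hfpow : f ^ (2 * m + 1) = 1 := by
    rw [← hm]
    exact congrArg Subtype.val (pow_card_eq_one' (x := (⟨f, hfF⟩ : S.F o)))
  have hz2 : f ^ (m + 1) * f ^ (m + 1) = f := by
    rw [← pow_add, show m + 1 + (m + 1) = (2 * m + 1) + 1 by omega, pow_succ, hfpow, one_mul]
  have htz : t * (f ^ (m + 1)) * t⁻¹ = (f ^ (m + 1))⁻¹ := by rw [← conj_pow, htf, inv_pow]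
  refine ⟨f ^ (m + 1), Subgroup.pow_mem _ hfF _, ?_⟩
  set z := f ^ (m + 1)
  have hzt : t * z⁻¹ = z * t := by
    have h1 : z⁻¹ * t = t * z := by rw [← htz]; group
    calc t * z⁻¹ = z * (z⁻¹ * t) * z⁻¹ := by group
      _ = z * (t * z) * z⁻¹ := by rw [h1]
      _ = z * t := by group
  have hszt : z * t * z⁻¹ = s := by
    rw [mul_assoc, hzt, ← mul_assoc, hz2, hf, mul_assoc, S.t2, mul_one]
  have hfin : (z⁻¹ * g) * t * (z⁻¹ * g)⁻¹ = t := by
    rw [show (z⁻¹ * g) * t * (z⁻¹ * g)⁻¹ = z⁻¹ * (g * t * g⁻¹) * z by group, ← hs, ← hszt]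
    group
  exact mul_inv_eq_iff_eq_mul.mp hfin

/-- If the derived subgroup's part centralising `t` is transitive on the other fixed points of
`t`, the derived subgroup is transitive on the other points. -/
theorem F_trans (h : ∀ x, t • x = x → x ≠ o → ∃ c ∈ S.F o, c • (u • o) = x) (y : α) (hy : y ≠ o) :
    ∃ c ∈ S.F o, c • (u • o) = y := by
  obtain ⟨g, hgo, hgy⟩ := S.exists_pair S.ou hy.symm
  obtain ⟨z, hz, hzg⟩ := S.exists_decomp hgo
  have hzo : z⁻¹ • o = o := by rw [inv_smul_eq_iff]; exact (S.F_le o hz).symm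
  have h1 : (z⁻¹ * g) • o = o := by rw [mul_smul, hgo, hzo]
  have h2 : (z⁻¹ * g) • (u • o) ≠ o := fun e =>
    S.ou ((MulAction.injective (z⁻¹ * g)) (h1.trans e.symm))
  obtain ⟨c, hc, hcx⟩ := h _ (S.comm_smul hzg S.tuo) h2
  refine ⟨z * c, Subgroup.mul_mem _ hz hc, ?_⟩
  rw [mul_smul, hcx, mul_smul, smul_inv_smul, hgy]

theorem F_map {g a : G} {x : α} (ha : a ∈ S.F x) : g * a * g⁻¹ ∈ S.F (g • x) := by
  obtain ⟨c, hc, rfl⟩ := ha
  let φ : stabilizer G x →* stabilizer G (g • x) :=
    { toFun := fun h => ⟨g * h * g⁻¹, by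
        rw [mem_stabilizer_iff, mul_smul, mul_smul, inv_smul_smul]; exact congrArg _ h.2⟩
      map_one' := Subtype.ext (by simp)
      map_mul' := fun h k => Subtype.ext (by simp only [Subgroup.coe_mul]; group) }
  refine ⟨φ c, ?_, rfl⟩
  have hle : (commutator (stabilizer G x)).map φ ≤ commutator (stabilizer G (g • x)) := by
    rw [commutator_def, commutator_def, Subgroup.map_commutator]
    exact Subgroup.commutator_mono le_top le_top
  exact hle ⟨c, hc, rfl⟩

end Base

end CfsgLib.Factorization.CyclicZ
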