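import Mathlib
import Cfsg.Agent.Lib.Perm.SharpThreePGL
import Cfsg.Agent.Lib.Factorization.CyclicZGroup.Basic

/-!
# Projective linear groups of degree two over a prime field as permutation groups

`Good G p`: `G` is sharply triply transitive on `p + 1` points with commutative two-point
stabilisers.  In such a group two elements commuting with an involution, neither of them of order
at most two, commute.
-/

set_option autoImplicit false

namespace CfsgLib.Factorization.CyclicZ

open MulAction

universe u v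

section Matrix

variable {F : Type*} [Field F]

open Matrix in
theorem anticomm_sq {g h : GL (Fin 2) F} (h2 : (2 : F) ≠ 0)
    (hh : h ∉ Subgroup.center (GL (Fin 2) F))
    {c : Fˣ} (hc1 : c ≠ 1) (e : g * h = h * g * GeneralLinearGroup.scalar (Fin 2) c) :
    g * g ∈ Subgroup.center (GL (Fin 2) F) := by
  have eM : (g : Matrix (Fin 2) (Fin 2) F) * (h : Matrix (Fin 2) (Fin 2) F) =
      (c : F) • ((h : Matrix (Fin 2) (Fin 2) F) * (g : Matrix (Fin 2) (Fin 2) F)) := by
    have := congrArg (fun z : GL (Fin 2) F => (z : Matrix (Fin 2) (Fin 2) F)) e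
    simp only [Units.val_mul, GeneralLinearGroup.coe_scalar] at this
    rw [this]
    ext i j
    simp [Matrix.mul_apply, Matrix.diagonal, mul_comm]
  have hcsq : (c : F) * c = 1 := by
    have := congrArg Matrix.det eM
    rw [Matrix.det_smul, Matrix.det_mul, Matrix.det_mul, Fintype.card_fin] at this
    have hg : (g : Matrix (Fin 2) (Fin 2) F).det ≠ 0 := g.det_ne_zero
    have hh' : (h : Matrix (Fin 2) (Fin 2) F).det ≠ 0 := h.det_ne_zero
    refine mul_right_cancel₀ (mul_ne_zero hg hh') ?_
    linear_combination -this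
  have hcm : (c : F) = -1 := by
    rcases mul_self_eq_one_iff.mp hcsq with h1 | h1
    · exact absurd (Units.ext h1) hc1
    · exact h1
  rw [hcm] at eM
  have htr : (h : Matrix (Fin 2) (Fin 2) F).trace = 0 := by
    have h0 : (h : Matrix (Fin 2) (Fin 2) F) =
        -((g⁻¹ : GL (Fin 2) F) : Matrix (Fin 2) (Fin 2) F) *
          ((h : Matrix (Fin 2) (Fin 2) F) * (g : Matrix (Fin 2) (Fin 2) F)) := by
      have h1 : ((g⁻¹ : GL (Fin 2) F) : Matrix (Fin 2) (Fin 2) F) *
          ((g : Matrix (Fin 2) (Fin 2) F) * (h : Matrix (Fin 2) (Fin 2) F)) = h := by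
        rw [← Matrix.mul_assoc, ← Units.val_mul, inv_mul_cancel, Units.val_one, Matrix.one_mul]
      rw [eM] at h1
      conv_lhs => rw [← h1]
      simp
    have := congrArg Matrix.trace h0
    rw [Matrix.neg_mul, Matrix.trace_neg, Matrix.trace_mul_comm, Matrix.mul_assoc, ← Units.val_mul,
      mul_inv_cancel, Units.val_one, Matrix.mul_one] at this
    have h2' : (2 : F) * (h : Matrix (Fin 2) (Fin 2) F).trace = 0 := by linear_combination this
    exact (mul_eq_zero.mp h2').resolve_left h2
  have q00 := congrFun (congrFun eM 0) 0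
  have q01 := congrFun (congrFun eM 0) 1
  have q10 := congrFun (congrFun eM 1) 0
  have q11 := congrFun (congrFun eM 1) 1
  simp only [Matrix.mul_apply, Fin.sum_univ_two, Matrix.smul_apply, smul_eq_mul] at q00 q01 q10 q11
  rw [Matrix.trace_fin_two] at htr
  set T : F := (g : Matrix (Fin 2) (Fin 2) F) 0 0 + (g : Matrix (Fin 2) (Fin 2) F) 1 1 with hT
  have t01 : (h : Matrix (Fin 2) (Fin 2) F) 0 1 * T = 0 := by
    linear_combination q01 - (g : Matrix (Fin 2) (Fin 2) F) 0 1 * htr
  have t10 : (h : Matrix (Fin 2) (Fin 2) F) 1 0 * T = 0 := by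
    linear_combination q10 - (g : Matrix (Fin 2) (Fin 2) F) 1 0 * htr
  have t00 : (2 : F) * (h : Matrix (Fin 2) (Fin 2) F) 0 0 * T = 0 := by
    linear_combination q00 - q11 + 2 * (g : Matrix (Fin 2) (Fin 2) F) 1 1 * htr
  have hT0 : T = 0 := by
    by_contra hTne
    apply hh
    rw [Matrix.GeneralLinearGroup.mem_center_iff_val_mem_range_scalar]
    refine ⟨(h : Matrix (Fin 2) (Fin 2) F) 0 0, ?_⟩
    have a01 := (mul_eq_zero.mp t01).resolve_right hTne
    have a10 := (mul_eq_zero.mp t10).resolve_right hTne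
    have a00 := (mul_eq_zero.mp ((mul_eq_zero.mp t00).resolve_right hTne)).resolve_left h2
    rw [a00, zero_add] at htr
    ext i j
    fin_cases i <;> fin_cases j <;> simp [a01, a10, a00, htr]
  rw [Matrix.GeneralLinearGroup.mem_center_iff_val_mem_range_scalar]
  refine ⟨(g : Matrix (Fin 2) (Fin 2) F) 0 0 * (g : Matrix (Fin 2) (Fin 2) F) 0 0 +
    (g : Matrix (Fin 2) (Fin 2) F) 0 1 * (g : Matrix (Fin 2) (Fin 2) F) 1 0, ?_⟩
  rw [hT] at hT0
  ext i j
  fin_cases i <;> fin_cases j <;> simp [Matrix.mul_apply, Fin.sum_univ_two]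
  · linear_combination -(g : Matrix (Fin 2) (Fin 2) F) 0 1 * hT0
  · linear_combination -(g : Matrix (Fin 2) (Fin 2) F) 1 0 * hT0
  · linear_combination ((g : Matrix (Fin 2) (Fin 2) F) 0 0 - (g : Matrix (Fin 2) (Fin 2) F) 1 1) * hT0

open Matrix in
theorem comm_of_comm {g k h : GL (Fin 2) F} (hh : h ∉ Subgroup.center (GL (Fin 2) F))
    (eg : g * h = h * g) (ek : k * h = h * k) : g * k = k * g := by
  have EG := congrArg (fun z : GL (Fin 2) F => (z : Matrix (Fin 2) (Fin 2) F)) eg
  have EK := congrArg (fun z : GL (Fin 2) F => (z : Matrix (Fin 2) (Fin 2) F)) ek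
  simp only [Units.val_mul] at EG EK
  have g00 := congrFun (congrFun EG 0) 0
  have g01 := congrFun (congrFun EG 0) 1
  have g10 := congrFun (congrFun EG 1) 0
  have k00 := congrFun (congrFun EK 0) 0
  have k01 := congrFun (congrFun EK 0) 1
  have k10 := congrFun (congrFun EK 1) 0
  simp only [Matrix.mul_apply, Fin.sum_univ_two] at g00 g01 g10 k00 k01 k10
  set h00 := (h : Matrix (Fin 2) (Fin 2) F) 0 0
  set h01 := (h : Matrix (Fin 2) (Fin 2) F) 0 1
  set h10 := (h : Matrix (Fin 2) (Fin 2) F) 1 0
  set h11 := (h : Matrix (Fin 2) (Fin 2) F) 1 1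
  set a := (g : Matrix (Fin 2) (Fin 2) F) 0 1
  set b := (g : Matrix (Fin 2) (Fin 2) F) 1 0
  set d := (g : Matrix (Fin 2) (Fin 2) F) 0 0 - (g : Matrix (Fin 2) (Fin 2) F) 1 1 with hd
  set a' := (k : Matrix (Fin 2) (Fin 2) F) 0 1
  set b' := (k : Matrix (Fin 2) (Fin 2) F) 1 0
  set d' := (k : Matrix (Fin 2) (Fin 2) F) 0 0 - (k : Matrix (Fin 2) (Fin 2) F) 1 1 with hd'
  have A1 : a * h10 = h01 * b := by linear_combination g00
  have A2 : a * (h00 - h11) = h01 * d := by rw [hd]; linear_combination -g01
  have A3 : b * (h00 - h11) = h10 * d := by rw [hd]; linear_combination g10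
  have B1 : a' * h10 = h01 * b' := by linear_combination k00
  have B2 : a' * (h00 - h11) = h01 * d' := by rw [hd']; linear_combination -k01
  have B3 : b' * (h00 - h11) = h10 * d' := by rw [hd']; linear_combination k10
  have key : a * b' = a' * b ∧ a * d' = a' * d ∧ b * d' = b' * d := by
    by_cases x1 : h01 = 0
    · by_cases x2 : h10 = 0
      · have x3 : h00 - h11 ≠ 0 := by
          intro x3
          apply hh
          rw [Matrix.GeneralLinearGroup.mem_center_iff_val_mem_range_scalar]
          refine ⟨h00, ?_⟩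
          have x4 : h11 = h00 := (sub_eq_zero.mp x3).symm
          ext i j
          fin_cases i <;> fin_cases j
          · simp; rfl
          · simp; exact x1.symm
          · simp; exact x2.symm
          · simp; exact x4.symm
        rw [x1, zero_mul] at A2 B2
        rw [x2, zero_mul] at A3 B3
        have ha := (mul_eq_zero.mp A2).resolve_right x3
        have ha' := (mul_eq_zero.mp B2).resolve_right x3
        have hb := (mul_eq_zero.mp A3).resolve_right x3
        have hb' := (mul_eq_zero.mp B3).resolve_right x3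
        simp [ha, ha', hb, hb']
      · have hk1 : a * b' = a' * b := by
          apply mul_left_cancel₀ x2
          linear_combination b' * A1 - b * B1
        refine ⟨hk1, ?_, ?_⟩
        · apply mul_left_cancel₀ x2
          linear_combination a' * A3 - a * B3 + (h00 - h11) * hk1
        · apply mul_left_cancel₀ x2
          linear_combination b' * A3 - b * B3
    · have hk1 : a * b' = a' * b := by
        apply mul_left_cancel₀ x1
        linear_combination a' * A1 - a * B1
      refine ⟨hk1, ?_, ?_⟩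
      · apply mul_left_cancel₀ x1
        linear_combination a' * A2 - a * B2
      · apply mul_left_cancel₀ x1
        linear_combination b' * A2 - b * B2 - (h00 - h11) * hk1
  obtain ⟨k1, k2, k3⟩ := key
  rw [hd] at k2 k3; rw [hd'] at k2 k3
  refine Units.ext ?_
  rw [Units.val_mul, Units.val_mul]
  ext i j
  fin_cases i <;> fin_cases j <;> simp [Matrix.mul_apply, Fin.sum_univ_two]
  · linear_combination k1
  · linear_combination -k2
  · linear_combination k3
  · linear_combination -k1

open Matrix in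
theorem pgl_commute (h2 : (2 : F) ≠ 0) {x y z : ProjGenLinGroup (Fin 2) F} (hx : x ≠ 1)
    (hy : y * y ≠ 1) (hz : z * z ≠ 1) (hyx : y * x = x * y) (hzx : z * x = x * z) :
    y * z = z * y := by
  induction x using ProjGenLinGroup.induction_on with | mk h =>
  induction y using ProjGenLinGroup.induction_on with | mk g =>
  induction z using ProjGenLinGroup.induction_on with | mk k =>
  have hh : h ∉ Subgroup.center (GL (Fin 2) F) := fun hc => hx (ProjGenLinGroup.mk_eq_one.mpr hc)
  have key : ∀ g : GL (Fin 2) F, ProjGenLinGroup.mk g * ProjGenLinGroup.mk g ≠ 1 →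
      ProjGenLinGroup.mk g * ProjGenLinGroup.mk h = ProjGenLinGroup.mk h * ProjGenLinGroup.mk g →
      g * h = h * g := by
    intro g hg e
    rw [← map_mul, ← map_mul] at e
    obtain ⟨c, hc⟩ := ProjGenLinGroup.mk_eq_mk_iff.mp e.symm
    by_cases hc1 : c = 1
    · rw [hc1, map_one, mul_one] at hc
      exact hc.symm
    · exact absurd (by rw [← map_mul, ProjGenLinGroup.mk_eq_one]
                       exact anticomm_sq h2 hh hc1 hc.symm) hg
  rw [← map_mul, ← map_mul, comm_of_comm hh (key g hy hyx) (key k hz hzx)]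

end Matrix

/-- The conclusion of the classification: sharply triply transitive of degree `p + 1`. -/
structure Good {α : Type v} [Fintype α] [DecidableEq α] (G : Subgroup (Equiv.Perm α)) (p : ℕ) :
    Prop where
  hp : p.Prime
  hp2 : p ≠ 2
  hcard : Fintype.card α = p + 1
  h3 : IsMultiplyPretransitive G α 3
  free : ∀ (g : G) (a b c : α), a ≠ b → a ≠ c → b ≠ c → g • a = a → g • b = b → g • c = c → g = 1
  comm : ∀ (a b : α), a ≠ b → ∀ g h : G, g • a = a → g • b = b → h • a = a → h • b = b → g * h = h * g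

namespace Good

variable {α : Type v} [Fintype α] [DecidableEq α] {G : Subgroup (Equiv.Perm α)} {p : ℕ}

theorem four_le (hG : Good G p) : 4 ≤ Fintype.card α := by
  have := hG.hcard; have := hG.hp.two_le; have := hG.hp2; omega

theorem sharp (hG : Good G p) (x : Fin 3 ↪ α) : stabilizer G x = ⊥ := by
  rw [Subgroup.eq_bot_iff_forall]
  intro g hg
  rw [mem_stabilizer_iff] at hg
  have h : ∀ i : Fin 3, g • x i = x i := fun i => congrArg (fun f : Fin 3 ↪ α => f i) hg
  exact hG.free g (x 0) (x 1) (x 2) (x.injective.ne (by decide)) (x.injective.ne (by decide))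
    (x.injective.ne (by decide)) (h 0) (h 1) (h 2)

theorem exists_map (hG : Good G p) {a b c a' b' c' : α} (hab : a ≠ b) (hac : a ≠ c) (hbc : b ≠ c)
    (hab' : a' ≠ b') (hac' : a' ≠ c') (hbc' : b' ≠ c') :
    ∃ g : G, g • a = a' ∧ g • b = b' ∧ g • c = c' := by
  let x : Fin 3 ↪ α := ⟨![a, b, c], fun i j h => by fin_cases i <;> fin_cases j <;> simp_all⟩
  let y : Fin 3 ↪ α := ⟨![a', b', c'], fun i j h => by fin_cases i <;> fin_cases j <;> simp_all⟩
  obtain ⟨g, hg⟩ := (isMultiplyPretransitive_iff.1 hG.h3) x y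
  have h : ∀ i : Fin 3, g • x i = y i := fun i => congrArg (fun f : Fin 3 ↪ α => f i) hg
  exact ⟨g, h 0, h 1, h 2⟩

theorem exists_iso (hG : Good G p) :
    ∃ (F : Type) (_ : Field F) (_ : Fintype F), Fintype.card F = p ∧
      Nonempty (G ≃* Matrix.ProjGenLinGroup (Fin 2) F) := by
  classical
  have h4 := hG.four_le
  have heven : Even (Fintype.card α) := by
    rw [hG.hcard]; exact (hG.hp.odd_of_ne_two hG.hp2).add_one
  obtain ⟨a, b, c, hab, hac, hbc⟩ := Fintype.two_lt_card_iff.mp (by omega : 2 < Fintype.card α)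
  obtain ⟨s, hsa, hsb, hsc⟩ := CfsgLib.Perm.SharpThreeFrame.exists_swap G hG.h3 hab hac hbc
  obtain ⟨D⟩ := CfsgLib.Perm.SharpThreeFrame.exists_frame heven h4 G hG.h3 hG.sharp hab hac hbc s
    hsa hsb hsc
  obtain ⟨F, hF, hFt, hFc, he⟩ := D.nonempty_equiv_pgl_of_comm hG.h3 (fun x y => Subtype.ext
    (hG.comm a b hab x y x.2.1 x.2.2 y.2.1 y.2.2))
  refine ⟨F, hF, hFt, ?_, he⟩
  have h1 := D.hcard
  have h2 := hG.hcard
  omega

theorem commute (hG : Good G p) {x y z : G} (hx : x ≠ 1)
    (hy : y * y ≠ 1) (hz : z * z ≠ 1) (hyx : y * x = x * y) (hzx : z * x = x * z) :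
    y * z = z * y := by
  obtain ⟨F, hF, hFt, hFc, ⟨e⟩⟩ := hG.exists_iso
  have h2 : (2 : F) ≠ 0 := by
    haveI : CharP F p := by
      haveI := Fact.mk hG.hp
      exact charP_of_card_eq_prime hFc
    intro h0
    have := (CharP.cast_eq_zero_iff F p 2).mp (by exact_mod_cast h0)
    exact hG.hp2 ((Nat.prime_dvd_prime_iff_eq hG.hp Nat.prime_two).mp this)
  apply e.injective
  rw [map_mul, map_mul]
  refine pgl_commute h2 (x := e x) ?_ ?_ ?_ ?_ ?_
  · rw [← map_one e]; exact e.injective.ne hx
  · rw [← map_one e, ← map_mul]; exact e.injective.ne hy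
  · rw [← map_one e, ← map_mul]; exact e.injective.ne hz
  · rw [← map_mul, ← map_mul, hyx]
  · rw [← map_mul, ← map_mul, hzx]

end Good

end CfsgLib.Factorization.CyclicZ
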