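import Mathlib
import Cfsg.Agent.S0054
import Cfsg.Agent.Lib.Perm.Normal
import Cfsg.Agent.Lib.Factorization.CyclicZGroup.Basic

/-!
# Solvable doubly transitive groups of even degree with a regular cyclic subgroup

Their degree is at most four.
-/

set_option autoImplicit false

namespace CfsgLib.Factorization.CyclicZ

open MulAction

universe v

theorem geom_sum_two_pow {R : Type*} [Ring R] (h2 : ∀ x : R, x + x = 0) (M : R) (c : ℕ) :
    (M + 1) ^ (2 ^ c) = M ^ (2 ^ c) + 1 ∧
      ∑ i ∈ Finset.range (2 ^ c), M ^ i = (M + 1) ^ (2 ^ c - 1) := by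
  induction c with
  | zero => simp
  | succ c ih =>
    obtain ⟨h1, hs⟩ := ih
    have e1 : (M + 1) ^ (2 ^ (c + 1)) = M ^ (2 ^ (c + 1)) + 1 := by
      rw [pow_succ, pow_mul, h1, pow_two, add_mul, mul_add, mul_one, one_mul,
        pow_mul, pow_two, ← add_assoc, add_assoc (M ^ 2 ^ c * M ^ 2 ^ c), h2, add_zero]
    refine ⟨e1, ?_⟩
    have h0 : 1 ≤ 2 ^ c := Nat.one_le_pow _ _ (by norm_num)
    rw [show 2 ^ (c + 1) = 2 ^ c + 2 ^ c by rw [pow_succ]; omega, Finset.sum_range_add]
    rw [show (∑ x ∈ Finset.range (2 ^ c), M ^ (2 ^ c + x)) =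
        M ^ (2 ^ c) * ∑ x ∈ Finset.range (2 ^ c), M ^ x by
      rw [Finset.mul_sum]; exact Finset.sum_congr rfl fun x _ => pow_add _ _ _]
    conv_lhs => arg 1; rw [← one_mul (∑ i ∈ Finset.range (2 ^ c), M ^ i)]
    rw [← add_mul, add_comm, ← h1, hs, ← pow_add]
    congr 1
    omega

/-- A nilpotent endomorphism of a group of order `2 ^ j` vanishes in power `j`. -/
theorem pow_eq_zero_of_nilpotent {V : Type*} [AddCommGroup V] [Finite V] {j : ℕ}
    (hV : Nat.card V = 2 ^ j) (N : AddMonoid.End V) (h : IsNilpotent N) : N ^ j = 0 := by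
  haveI := Fact.mk Nat.prime_two
  have mk' : ∀ (i : ℕ) (x : V), x ∈ (N ^ i : AddMonoid.End V).ker ↔ (N ^ i) x = 0 :=
    fun i x => Iff.rfl
  have hr : ∀ (i : ℕ) (x : V), (N ^ (i + 1)) x = (N ^ i) (N x) := fun i x =>
    DFunLike.congr_fun (pow_succ N i) x
  have hl : ∀ (i : ℕ) (x : V), (N ^ (i + 1)) x = N ((N ^ i) x) := fun i x =>
    DFunLike.congr_fun (pow_succ' N i) x
  have hmono : ∀ i, (N ^ i : AddMonoid.End V).ker ≤ (N ^ (i + 1) : AddMonoid.End V).ker :=
    fun i x hx => (mk' _ x).mpr ((hl i x).trans ((congrArg N ((mk' i x).mp hx)).trans (map_zero N)))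
  have key : ∀ i, i ≤ j →
      (N ^ i : AddMonoid.End V).ker = ⊤ ∨ 2 ^ i ≤ Nat.card (N ^ i : AddMonoid.End V).ker := by
    intro i
    induction i with
    | zero => intro _; exact Or.inr Nat.card_pos
    | succ i ih =>
      intro hi
      rcases ih (by omega) with ht | hle
      · exact Or.inl (top_le_iff.mp (ht ▸ hmono i))
      by_cases heq : (N ^ i : AddMonoid.End V).ker = (N ^ (i + 1) : AddMonoid.End V).ker
      · left
        have stab : ∀ k, (N ^ (i + k) : AddMonoid.End V).ker = (N ^ i : AddMonoid.End V).ker := by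
          intro k
          induction k with
          | zero => rfl
          | succ k ihk =>
            refine SetLike.ext fun x => ⟨fun hx => ?_, fun hx => ?_⟩
            · have h1 : (N ^ (i + k)) (N x) = 0 := (hr _ x).symm.trans ((mk' _ x).mp hx)
              have h2 : (N ^ i) (N x) = 0 := (mk' _ _).mp (ihk ▸ (mk' _ _).mpr h1)
              have h3 : x ∈ (N ^ (i + 1) : AddMonoid.End V).ker := (mk' _ x).mpr ((hr i x).trans h2)
              rwa [← heq] at h3
            · exact hmono _ (ihk.symm ▸ hx)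
        obtain ⟨m, hm⟩ := h
        rw [← heq, ← stab m, eq_top_iff]
        intro x _
        refine (mk' _ x).mpr ?_
        have e := DFunLike.congr_fun (pow_add N i m) x
        rw [hm, mul_zero] at e
        exact e
      · right
        have hlt : (N ^ i : AddMonoid.End V).ker < (N ^ (i + 1) : AddMonoid.End V).ker :=
          lt_of_le_of_ne (hmono i) heq
        obtain ⟨d, hd⟩ := AddSubgroup.card_dvd_of_le (hmono i)
        have hd2 : 2 ≤ d := by
          have hne : d ≠ 1 := by
            rintro rfl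
            rw [mul_one] at hd
            exact heq (AddSubgroup.eq_of_le_of_card_ge (hmono i) hd.le)
          have : d ≠ 0 := by
            rintro rfl
            rw [mul_zero] at hd
            exact (Nat.card_pos (α := (N ^ (i + 1) : AddMonoid.End V).ker)).ne' hd
          omega
        rw [hd, pow_succ]
        exact Nat.mul_le_mul hle hd2
  have hker : (N ^ j : AddMonoid.End V).ker = ⊤ := by
    rcases key j le_rfl with h1 | h1
    · exact h1
    · exact AddSubgroup.eq_top_of_le_card _ (by rw [hV]; exact h1)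
  exact AddMonoidHom.ext fun x => (mk' _ x).mp (hker.symm ▸ AddSubgroup.mem_top x)

theorem two_pow_bound {j : ℕ} (hj : 3 ≤ j) : j ≤ 2 ^ (j - 1) - 1 := by
  obtain ⟨k, rfl⟩ : ∃ k, j = k + 3 := ⟨j - 3, by omega⟩
  clear hj
  induction k with
  | zero => norm_num
  | succ k ih =>
    rw [show k + 1 + 3 - 1 = (k + 3 - 1) + 1 by omega, pow_succ]
    omega

variable {α : Type v} [Fintype α] [DecidableEq α]

theorem card_le_four (G : Subgroup (Equiv.Perm α)) (h2 : IsMultiplyPretransitive G α 2)
    (hsol : Group.IsSolvable G) (D : Subgroup G) (hD : IsCyclic D) (hreg : IsRegularSub D α)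
    (heven : Even (Fintype.card α)) : Fintype.card α ≤ 4 := by
  classical
  by_contra hgt
  push Not at hgt
  haveI : Nonempty α := Fintype.card_pos_iff.mp (by omega)
  haveI : Nontrivial α := Fintype.one_lt_card_iff_nontrivial.mp (by omega)
  obtain ⟨o⟩ := ‹Nonempty α›
  haveI hprim : IsPreprimitive G α := isPreprimitive_of_is_two_pretransitive h2
  have hGne : (⊤ : Subgroup G) ≠ ⊥ := by
    intro e
    obtain ⟨a, b, hab⟩ := exists_pair_ne α
    obtain ⟨d, hd, e'⟩ := hreg.trans a b
    have : d = 1 := by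
      have : d ∈ (⊥ : Subgroup G) := e ▸ Subgroup.mem_top d
      simpa using this
    rw [this, one_smul] at e'
    exact hab e'
  -- an abelian normal subgroup
  obtain ⟨m, hm⟩ := (Group.isSolvable_def (G := G)).mp hsol
  have hex : ∃ m, derivedSeries G m = ⊥ := ⟨m, hm⟩
  set k := Nat.find hex with hk
  have hk0 : k ≠ 0 := by
    intro e
    have := Nat.find_spec hex
    rw [← hk, e, derivedSeries_zero] at this
    exact hGne this
  set V := derivedSeries G (k - 1) with hV
  have hVne : V ≠ ⊥ := Nat.find_min hex (show k - 1 < k by omega)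
  haveI : V.Normal := derivedSeries_normal G (k - 1)
  have hVcomm : ∀ a ∈ V, ∀ b ∈ V, a * b = b * a := by
    intro a ha b hb
    have h0 := Nat.find_spec hex
    rw [← hk, show k = k - 1 + 1 by omega, derivedSeries_succ] at h0
    exact commutatorElement_eq_one_iff_mul_comm.mp
      ((Subgroup.mem_bot).mp (h0 ▸ Subgroup.commutator_mem_commutator ha hb))
  haveI hVt : IsPretransitive V α := CfsgLib.Perm.Normal.isPretransitive_normal V hVne
  have hVfree : ∀ a ∈ V, ∀ x : α, a • x = x → a = 1 := by
    intro a ha x hx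
    refine eq_of_smul_eq_smul (α := α) fun y => ?_
    obtain ⟨b, hb⟩ := MulAction.exists_smul_eq V x y
    rw [one_smul, ← hb]
    show a • (b : G) • x = (b : G) • x
    rw [← mul_smul, hVcomm a ha b b.2, mul_smul, hx]
  have hVreg : IsRegularSub V α := ⟨fun x y => by
    obtain ⟨b, hb⟩ := MulAction.exists_smul_eq V x y
    exact ⟨b, b.2, hb⟩, hVfree⟩
  obtain ⟨-, r, hr, hrV⟩ := Cfsg.Agent.S0054.result (G := G) (X := α) h2 V hVt (fun x => by
    rw [Subgroup.eq_bot_iff_forall]
    intro a ha
    exact Subtype.ext (hVfree a a.2 x ha))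
  have hcardV : Nat.card V = Fintype.card α := (hVreg.card_eq o).trans Nat.card_eq_fintype_card
  have hr2 : r = 2 := by
    haveI := Fact.mk Nat.prime_two
    obtain ⟨a, ha⟩ := exists_prime_orderOf_dvd_card' (G := V) 2 (by rw [hcardV]; exact heven.two_dvd)
    have h1 : a ^ r = 1 := Subtype.ext (hrV a a.2)
    have := orderOf_dvd_of_pow_eq_one h1
    rw [ha] at this
    exact ((Nat.prime_dvd_prime_iff_eq Nat.prime_two hr).mp this).symm
  subst hr2
  obtain ⟨j, hj⟩ : ∃ j, Nat.card V = 2 ^ j := by
    haveI := Fact.mk Nat.prime_two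
    exact IsPGroup.iff_card.mp (fun a => ⟨1, by rw [pow_one]; exact Subtype.ext (hrV a a.2)⟩)
  have hj3 : 3 ≤ j := by
    by_contra hlt
    have : 2 ^ j ≤ 2 ^ 2 := Nat.pow_le_pow_right (by norm_num) (by omega)
    rw [← hj, hcardV] at this
    omega
  haveI : IsMulCommutative V := ⟨⟨fun a b => Subtype.ext (hVcomm a a.2 b b.2)⟩⟩
  letI : CommGroup V := { (inferInstance : Group V) with
    mul_comm := fun a b => Subtype.ext (hVcomm a a.2 b b.2) }
  obtain ⟨d, hd⟩ := hD.exists_generator
  have hdord : orderOf (d : G) = 2 ^ j := by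
    rw [Subgroup.orderOf_coe, orderOf_eq_card_of_forall_mem_zpowers hd, hreg.card_eq o, ← hj,
      hVreg.card_eq o]
  obtain ⟨v, hv, hvo⟩ := hVreg.trans o ((d : G) • o)
  -- conjugation by the generator
  let M : AddMonoid.End (Additive V) :=
    { toFun := fun a => Additive.ofMul (MulAut.conjNormal (d : G) (Additive.toMul a))
      map_zero' := by simp
      map_add' := by intro a b; simp }
  let v₀ : Additive V := Additive.ofMul ⟨v, hv⟩
  have hMpow : ∀ (i : ℕ) (a : Additive V), (M ^ i) a =
      Additive.ofMul (MulAut.conjNormal ((d : G) ^ i) (Additive.toMul a)) := by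
    intro i
    induction i with
    | zero => intro a; simp
    | succ i ih =>
      intro a
      rw [pow_succ']
      show M ((M ^ i) a) = _
      rw [ih]
      show Additive.ofMul (MulAut.conjNormal (d : G) (MulAut.conjNormal ((d : G) ^ i) _)) = _
      rw [pow_succ', map_mul]
      rfl
  have hMnil : IsNilpotent (M + 1) := by
    refine ⟨2 ^ j, ?_⟩
    have hE2 : ∀ x : AddMonoid.End (Additive V), x + x = 0 := by
      intro x
      refine AddMonoidHom.ext fun a => ?_
      show x a + x a = 0
      have := Subtype.ext (a1 := (Additive.toMul (x a)) ^ 2) (a2 := (1 : V))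
        (hrV _ (Additive.toMul (x a)).2)
      rw [pow_two] at this
      exact this
    rw [(geom_sum_two_pow hE2 M j).1]
    have : M ^ (2 ^ j) = 1 := by
      refine AddMonoidHom.ext fun a => ?_
      refine (hMpow _ a).trans ?_
      rw [← hdord, pow_orderOf_eq_one, map_one]
      rfl
    rw [this, hE2]
  have hE2 : ∀ x : AddMonoid.End (Additive V), x + x = 0 := by
    intro x
    refine AddMonoidHom.ext fun a => ?_
    show x a + x a = 0
    have := Subtype.ext (a1 := (Additive.toMul (x a)) ^ 2) (a2 := (1 : V))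
      (hrV _ (Additive.toMul (x a)).2)
    rw [pow_two] at this
    exact this
  have hNj : (M + 1) ^ j = 0 :=
    pow_eq_zero_of_nilpotent (show Nat.card (Additive V) = 2 ^ j from hj) (M + 1) hMnil
  -- orbit of the base point
  have horb : ∀ i : ℕ, (d : G) ^ i • o =
      ((Additive.toMul ((∑ l ∈ Finset.range i, M ^ l) v₀) : V) : G) • o := by
    intro i
    induction i with
    | zero => simp
    | succ i ih =>
      rw [pow_succ', mul_smul, ih, ← mul_smul, Finset.sum_range_succ']
      have e : (∑ l ∈ Finset.range i, M ^ (l + 1) + M ^ 0 : AddMonoid.End (Additive V)) v₀ =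
          M ((∑ l ∈ Finset.range i, M ^ l) v₀) + v₀ := by
        rw [pow_zero]
        simp only [pow_succ', ← Finset.mul_sum]
        rfl
      rw [e]
      show ((d : G) * _) • o = (((d : G) * _ * (d : G)⁻¹) * v) • o
      rw [mul_smul, mul_smul _ v, hvo, ← mul_smul, ← mul_smul, inv_mul_cancel_right]
  have hzero : (∑ l ∈ Finset.range (2 ^ (j - 1)), M ^ l) = 0 := by
    rw [(geom_sum_two_pow hE2 M (j - 1)).2]
    exact pow_eq_zero_of_le (two_pow_bound hj3) hNj
  have hfix : (d : G) ^ (2 ^ (j - 1)) • o = o := by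
    rw [horb, hzero]
    exact one_smul G o
  have := hreg.free _ (D.pow_mem d.2 _) o hfix
  have h1 := orderOf_dvd_of_pow_eq_one this
  rw [hdord] at h1
  have h2' := Nat.le_of_dvd (by positivity) h1
  have : 2 ^ (j - 1) < 2 ^ j := Nat.pow_lt_pow_right (by norm_num) (by omega)
  omega

end CfsgLib.Factorization.CyclicZ
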