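import Mathlib
import Cfsg.Agent.Lib.Factorization.CyclicZGroup.Base
import Cfsg.Agent.Lib.Factorization.CyclicZGroup.Good
import Cfsg.Agent.Lib.Factorization.CyclicZGroup.Solvable

/-!
# The group induced by the centraliser of `t` on its fixed points
-/

set_option autoImplicit false

namespace CfsgLib.Factorization.CyclicZ

open MulAction

universe u v

variable {α : Type v} [Fintype α] [DecidableEq α]

theorem exists_second_fixed {β : Type v} [Fintype β] [DecidableEq β] (heven : Even (Fintype.card β))
    (σ : Equiv.Perm β) (h2 : ∀ x, σ (σ x) = x) {x : β} (hx : σ x = x) :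
    ∃ y, y ≠ x ∧ σ y = y := by
  classical
  by_contra hc
  push Not at hc
  haveI : Fact (Nat.Prime 2) := ⟨Nat.prime_two⟩
  have hs : σ * σ = 1 := Equiv.ext h2
  have hp : IsPGroup 2 (Subgroup.zpowers σ) :=
    IsPGroup.of_card_dvd_pow (n := 1) (by
      rw [Nat.card_zpowers, pow_one]; exact orderOf_dvd_of_pow_eq_one (by rw [pow_two, hs]))
  have h1 := hp.card_modEq_card_fixedPoints β
  have hfix : fixedPoints (Subgroup.zpowers σ) β = {x} := by
    ext y
    simp only [mem_fixedPoints, Set.mem_singleton_iff]
    constructor
    · intro hy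
      by_contra hne
      exact hc y hne (hy ⟨σ, Subgroup.mem_zpowers σ⟩)
    · rintro rfl ⟨g, m, rfl⟩
      exact (stabilizer (Equiv.Perm β) y).zpow_mem hx m
  rw [hfix, Nat.card_eq_fintype_card, Nat.card_coe_set_eq, Set.ncard_singleton] at h1
  rw [Nat.even_iff] at heven
  unfold Nat.ModEq at h1
  omega

theorem sign_four : ∀ σ : Equiv.Perm (Fin 4), (∀ x, σ x ≠ x) → (∀ x, σ (σ x) ≠ x) →
    Equiv.Perm.sign σ = -1 := by decide

namespace Base

variable {G : Subgroup (Equiv.Perm α)} {A : Subgroup G} {o : α} {u t : G} (S : Base G A o u t)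
include S

/-- The action of the centraliser on the fixed points. -/
def lineHom (_ : Base G A o u t) :
    ↥(Subgroup.centralizer ({t} : Set G)) →* Equiv.Perm {x : α // t • x = x} where
  toFun g :=
    { toFun := fun x => ⟨(g : G) • (x : α), by
        rw [← mul_smul, (Subgroup.mem_centralizer_iff.mp g.2 t rfl), mul_smul, x.2]⟩
      invFun := fun x => ⟨(g : G)⁻¹ • (x : α), by
        rw [← mul_smul, Subgroup.mem_centralizer_iff.mp
          ((Subgroup.centralizer ({t} : Set G)).inv_mem g.2) t rfl, mul_smul, x.2]⟩
      left_inv := fun x => Subtype.ext (inv_smul_smul (g : G) (x : α))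
      right_inv := fun x => Subtype.ext (smul_inv_smul (g : G) (x : α)) }
  map_one' := Equiv.ext fun x => Subtype.ext (one_smul G (x : α))
  map_mul' g h := Equiv.ext fun x => Subtype.ext (mul_smul (g : G) (h : G) (x : α))

theorem mem_centr {g : G} (h : g * t = t * g) : g ∈ Subgroup.centralizer ({t} : Set G) :=
  Subgroup.mem_centralizer_iff.mpr fun z hz => by rw [Set.mem_singleton_iff.mp hz]; exact h.symm

theorem centr_comm {g : G} (h : g ∈ Subgroup.centralizer ({t} : Set G)) : g * t = t * g :=
  (Subgroup.mem_centralizer_iff.mp h t rfl).symm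

/-- The part of the regular cyclic subgroup centralising `t`. -/
def lineD (_ : Base G A o u t) : Subgroup (Subgroup.centralizer ({t} : Set G)) :=
  A.subgroupOf _

theorem line_card_lt : Fintype.card {x : α // t • x = x} < Fintype.card α := by
  obtain ⟨z, hz⟩ : ∃ z, t • z ≠ z := by
    by_contra hc
    push Not at hc
    exact S.t1 (eq_of_smul_eq_smul (α := α) fun x => by rw [hc x, one_smul])
  exact Fintype.card_subtype_lt (x := z) hz

theorem line_even : Even (Fintype.card {x : α // t • x = x}) := by
  classical
  haveI : Fact (Nat.Prime 2) := ⟨Nat.prime_two⟩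
  have hp : IsPGroup 2 (Subgroup.zpowers t) :=
    IsPGroup.of_card_dvd_pow (n := 1) (by
      rw [Nat.card_zpowers, pow_one]; exact orderOf_dvd_of_pow_eq_one (by rw [pow_two, S.t2]))
  have h1 := hp.card_modEq_card_fixedPoints α
  have he : Nat.card (fixedPoints (Subgroup.zpowers t) α) = Fintype.card {x : α // t • x = x} := by
    rw [← Nat.card_eq_fintype_card]
    refine Nat.card_congr (Equiv.subtypeEquivRight fun y => ⟨fun hy => hy ⟨t, Subgroup.mem_zpowers t⟩, ?_⟩)
    rintro hy ⟨g, m, rfl⟩
    exact (stabilizer G y).zpow_mem hy m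
  rw [he, Nat.card_eq_fintype_card] at h1
  have h2 := S.even_card
  rw [Nat.even_iff] at h2 ⊢
  unfold Nat.ModEq at h1
  omega

/-- The group on the fixed points. -/
theorem line_facts :
    IsMultiplyPretransitive S.lineHom.range {x : α // t • x = x} 2 ∧
    IsCyclic ↥(S.lineD.map S.lineHom.rangeRestrict) ∧
    IsRegularSub (S.lineD.map S.lineHom.rangeRestrict) {x : α // t • x = x} ∧
    ∀ x : {x : α // t • x = x}, IsZGroup ↥(stabilizer S.lineHom.range x) := by
  refine ⟨?_, ?_, ⟨?_, ?_⟩, ?_⟩
  · rw [MulAction.is_two_pretransitive_iff]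
    intro a b c d hab hcd
    obtain ⟨g, hga, hgb⟩ := S.exists_pair (fun e => hab (Subtype.ext e))
      (fun e => hcd (Subtype.ext e))
    have hg : g * t = t * g := S.comm_of_fix (fun e => hab (Subtype.ext e)) a.2 b.2
      (by rw [hga]; exact c.2) (by rw [hgb]; exact d.2)
    exact ⟨⟨S.lineHom ⟨g, S.mem_centr hg⟩, ⟨_, rfl⟩⟩, Subtype.ext hga, Subtype.ext hgb⟩
  · haveI := S.cyc
    haveI : IsCyclic ↥S.lineD := isCyclic_of_injective
      (f := (⟨⟨fun d => (⟨((d : Subgroup.centralizer ({t} : Set G)) : G), d.2⟩ : A), rfl⟩,
        fun _ _ => rfl⟩ : ↥S.lineD →* ↥A))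
      (fun a b e => Subtype.ext (Subtype.ext (congrArg (fun z : A => (z : G)) e)))
    exact isCyclic_of_surjective (f := S.lineHom.rangeRestrict.subgroupMap S.lineD)
      (MonoidHom.subgroupMap_surjective _ _)
  · intro x y
    obtain ⟨a, ha, hax⟩ := S.reg.trans x.1 y.1
    obtain ⟨b, hb, hbt, hbo⟩ := S.exists_fix x.1 x.2
    have hab : (a * b) * t = t * (a * b) := S.A_comm_of_fix (A.mul_mem ha hb) (by
      rw [mul_smul, hbo, hax]; exact y.2)
    have hat : a * t = t * a := by
      have h1 := S.comm_smul hab S.to'
      calc a * t = (a * b) * t * b⁻¹ := by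
            rw [mul_assoc a b, hbt]; group
        _ = t * a := by rw [hab]; group
    exact ⟨_, Subgroup.mem_map_of_mem _ (show (⟨a, S.mem_centr hat⟩ :
      Subgroup.centralizer ({t} : Set G)) ∈ S.lineD from ha), Subtype.ext hax⟩
  · rintro _ ⟨d, hd, rfl⟩ x hx
    have h1 : (d : G) = 1 := S.reg.free _ hd x.1 (congrArg Subtype.val hx)
    rw [show d = 1 from Subtype.ext h1, map_one]
  · intro x
    haveI := S.zgrp x.1
    let K : Subgroup (Subgroup.centralizer ({t} : Set G)) :=
      (stabilizer G x.1).subgroupOf _
    haveI : IsZGroup K := IsZGroup.of_injective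
      (f := (⟨⟨fun d => (⟨((d : Subgroup.centralizer ({t} : Set G)) : G), d.2⟩ :
        stabilizer G x.1), rfl⟩, fun _ _ => rfl⟩ : ↥K →* ↥(stabilizer G x.1)))
      (fun a b e => Subtype.ext (Subtype.ext (congrArg (fun z : stabilizer G x.1 => (z : G)) e)))
    let ψ : ↥K →* ↥(stabilizer S.lineHom.range x) :=
      { toFun := fun d => ⟨S.lineHom.rangeRestrict d, Subtype.ext (show ((d : Subgroup.centralizer ({t} : Set G)) : G) • x.1 = x.1 from d.2)⟩
        map_one' := Subtype.ext (map_one _)
        map_mul' := fun a b => Subtype.ext (map_mul _ _ _) }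
    refine IsZGroup.of_surjective (f := ψ) ?_
    rintro ⟨⟨_, g, rfl⟩, hg⟩
    exact ⟨⟨g, congrArg Subtype.val hg⟩, rfl⟩

/-- The group on the fixed points is sharply triply transitive when there are more than two. -/
theorem line_good
    (IH : ∀ (β : Type v) [Fintype β] [DecidableEq β] (G' : Subgroup (Equiv.Perm β)) (A' : Subgroup G'),
      Fintype.card β < Fintype.card α → Setup G' A' → ∃ q, Good G' q)
    (h4 : 2 < Fintype.card {x : α // t • x = x}) : ∃ q, Good S.lineHom.range q := by
  classical
  obtain ⟨h2, hcyc, hreg, hz⟩ := S.line_facts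
  by_cases hsol : Group.IsSolvable S.lineHom.range
  · have hle := card_le_four _ h2 hsol _ hcyc hreg S.line_even
    have hcard : Fintype.card {x : α // t • x = x} = 4 := by
      have := S.line_even
      rw [Nat.even_iff] at this
      omega
    let β := {x : α // t • x = x}
    have htop : S.lineHom.range = ⊤ := by
      haveI := h2
      haveI : IsPretransitive S.lineHom.range β := isPretransitive_of_is_two_pretransitive
      let O : β := ⟨o, S.to'⟩
      -- twelve divides the order
      have h1 : 4 * Nat.card (stabilizer S.lineHom.range O) = Nat.card S.lineHom.range := by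
        have := Subgroup.index_mul_card (stabilizer S.lineHom.range O)
        rwa [index_stabilizer_of_transitive _ O, Nat.card_eq_fintype_card (α := β), hcard] at this
      have h3 : 3 ∣ Nat.card (stabilizer S.lineHom.range O) := by
        haveI : IsPretransitive (stabilizer S.lineHom.range O)
            (SubMulAction.ofStabilizer S.lineHom.range O) := by
          refine ⟨fun a b => ?_⟩
          obtain ⟨g, hg1, hg2⟩ := MulAction.is_two_pretransitive_iff.mp h2
            (Ne.symm a.2) (Ne.symm b.2)
          exact ⟨⟨g, hg1⟩, Subtype.ext hg2⟩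
        have hne : Nat.card (SubMulAction.ofStabilizer S.lineHom.range O) = 3 := by
          rw [show Nat.card (SubMulAction.ofStabilizer S.lineHom.range O) =
            Nat.card {x : β // x ≠ O} from rfl, Nat.card_eq_fintype_card]
          simp [Fintype.card_subtype_compl, hcard, β]
        obtain ⟨w⟩ : Nonempty (SubMulAction.ofStabilizer S.lineHom.range O) :=
          (Nat.card_pos_iff.mp (by omega)).1
        rw [← hne, ← index_stabilizer_of_transitive (stabilizer S.lineHom.range O) w]
        exact Subgroup.index_dvd_card _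
      have hperm : Nat.card (Equiv.Perm β) = 24 := by
        rw [Nat.card_perm, Nat.card_eq_fintype_card, hcard]; rfl
      have hdvd : Nat.card S.lineHom.range ∣ 24 := hperm ▸ Subgroup.card_subgroup_dvd_card _
      have h12 : 12 ∣ Nat.card S.lineHom.range := h1 ▸ Nat.mul_dvd_mul_left 4 h3
      by_contra hne
      have hidx : S.lineHom.range.index = 2 := by
        have h5 := Subgroup.card_mul_index S.lineHom.range
        rw [hperm] at h5
        obtain ⟨c, hc⟩ := h12
        rw [hc] at h5 hdvd
        have hc2 : c ∣ 2 := Nat.dvd_of_mul_dvd_mul_left (by norm_num : 0 < 12) (by simpa using hdvd)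
        rcases (Nat.dvd_prime Nat.prime_two).mp hc2 with rfl | rfl
        · omega
        · exact absurd (Subgroup.eq_top_of_card_eq _ (by rw [hperm, hc])) hne
      have halt := Equiv.Perm.eq_alternatingGroup_of_index_eq_two hidx
      obtain ⟨⟨d, hd⟩, hgen⟩ := hcyc.exists_generator
      have hdord : orderOf d = 4 := by
        rw [← Subgroup.orderOf_mk d hd, orderOf_eq_card_of_forall_mem_zpowers hgen, hreg.card_eq O,
          Nat.card_eq_fintype_card, hcard]
      have hf1 : ∀ x, (d : Equiv.Perm β) x ≠ x := by
        intro x hx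
        rw [hreg.free d hd x hx, orderOf_one] at hdord
        omega
      have hf2 : ∀ x, (d : Equiv.Perm β) ((d : Equiv.Perm β) x) ≠ x := by
        intro x hx
        have h6 : d * d = 1 := hreg.free _ (Subgroup.mul_mem _ hd hd) x hx
        have h7 := orderOf_dvd_of_pow_eq_one (show d ^ 2 = 1 by rw [pow_two, h6])
        rw [hdord] at h7
        norm_num at h7
      let e : β ≃ Fin 4 := Fintype.equivFinOfCardEq hcard
      have hs := sign_four (e.permCongr (d : Equiv.Perm β))
        (fun x hx => hf1 (e.symm x) (e.injective (by simpa using hx)))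
        (fun x hx => hf2 (e.symm x) (e.injective (by simpa using hx)))
      rw [Equiv.Perm.sign_permCongr] at hs
      have hmem : (d : Equiv.Perm β) ∈ alternatingGroup β := halt ▸ d.2
      rw [Equiv.Perm.mem_alternatingGroup, hs] at hmem
      exact absurd hmem (by decide)
    refine ⟨3, ⟨Nat.prime_three, by norm_num, by rw [hcard], ?_, ?_, ?_⟩⟩
    · rw [isMultiplyPretransitive_iff]
      intro x y
      obtain ⟨g, hg⟩ := (isMultiplyPretransitive_iff.mp
        (Equiv.Perm.isMultiplyPretransitive β 3)) x y
      exact ⟨⟨g, htop ▸ Subgroup.mem_top g⟩, hg⟩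
    · intro g a b c hab hac hbc ga gb gc
      refine Subtype.ext (Equiv.ext fun z => ?_)
      show (g : Equiv.Perm β) z = z
      by_cases hz : z = a ∨ z = b ∨ z = c
      · rcases hz with rfl | rfl | rfl
        · exact ga
        · exact gb
        · exact gc
      · push Not at hz
        have huniv : ({a, b, c, z} : Finset β) = Finset.univ := by
          refine Finset.eq_univ_of_card _ ?_
          rw [hcard, Finset.card_insert_of_notMem (by simp [hab, hac, hz.1.symm]),
            Finset.card_insert_of_notMem (by simp [hbc, hz.2.1.symm]),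
            Finset.card_pair hz.2.2.symm]
        have hmem := Finset.mem_univ ((g : Equiv.Perm β) z)
        rw [← huniv] at hmem
        simp only [Finset.mem_insert, Finset.mem_singleton] at hmem
        rcases hmem with h | h | h | h
        · exact absurd ((g : Equiv.Perm β).injective (h.trans ga.symm)) hz.1
        · exact absurd ((g : Equiv.Perm β).injective (h.trans gb.symm)) hz.2.1
        · exact absurd ((g : Equiv.Perm β).injective (h.trans gc.symm)) hz.2.2
        · exact h
    · intro a b hab g h ga gb ha hb
      -- a permutation of four points fixing two is determined by one further value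
      have key : ∀ k : S.lineHom.range, k • a = a → k • b = b → k * k = 1 := by
        intro k ka kb
        refine Subtype.ext (Equiv.ext fun z => ?_)
        show (k : Equiv.Perm β) ((k : Equiv.Perm β) z) = z
        by_cases hza : z = a
        · subst hza; rw [show (k : Equiv.Perm β) z = z from ka]; exact ka
        by_cases hzb : z = b
        · subst hzb; rw [show (k : Equiv.Perm β) z = z from kb]; exact kb
        by_contra hne
        have h1 : (k : Equiv.Perm β) z ≠ z := fun e => hne (by rw [e, e])
        have hka : (k : Equiv.Perm β) z ≠ a := fun e => hza ((k : Equiv.Perm β).injective (e.trans ka.symm))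
        have hkb : (k : Equiv.Perm β) z ≠ b := fun e => hzb ((k : Equiv.Perm β).injective (e.trans kb.symm))
        set w := (k : Equiv.Perm β) z with hw
        have hwa : (k : Equiv.Perm β) w ≠ a := fun e => hka ((k : Equiv.Perm β).injective (e.trans ka.symm))
        have hwb : (k : Equiv.Perm β) w ≠ b := fun e => hkb ((k : Equiv.Perm β).injective (e.trans kb.symm))
        have hww : (k : Equiv.Perm β) w ≠ w := fun e => h1 ((k : Equiv.Perm β).injective e)
        have hle5 := Finset.card_le_univ ({a, b, z, w, (k : Equiv.Perm β) w} : Finset β)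
        rw [hcard, Finset.card_insert_of_notMem (by simp [hab, Ne.symm hza, hka.symm, hwa.symm]),
          Finset.card_insert_of_notMem (by simp [Ne.symm hzb, hkb.symm, hwb.symm]),
          Finset.card_insert_of_notMem (by simp [h1.symm, Ne.symm hne]),
          Finset.card_pair hww.symm] at hle5
        omega
      have e1 := key g ga gb
      have e2 := key h ha hb
      have e3 := key (g * h) (by rw [mul_smul, ha, ga]) (by rw [mul_smul, hb, gb])
      calc g * h = (g * h)⁻¹ := (inv_eq_of_mul_eq_one_right e3).symm
        _ = h⁻¹ * g⁻¹ := mul_inv_rev g h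
        _ = h * g := by rw [inv_eq_of_mul_eq_one_right e1, inv_eq_of_mul_eq_one_right e2]
  · exact IH _ _ _ S.line_card_lt ⟨h2, hcyc, hreg, hz, hsol⟩

end Base

end CfsgLib.Factorization.CyclicZ
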