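import Mathlib
import Cfsg.Agent.S5015
import Cfsg.Agent.Lib.Perm.SpecialRankOne
import Cfsg.Agent.Lib.Factorization.CyclicZGroup.Base
import Cfsg.Agent.Lib.Factorization.CyclicZGroup.Good

/-!
# The involution fixes only two points

Then the derived subgroup of a stabiliser is regular on the other points and inverted by `t`, the
rank one group it defines is special, so it has prime order and the group is sharply triply
transitive.
-/

set_option autoImplicit false

namespace CfsgLib.Factorization.CyclicZ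

open MulAction

universe u v

variable {α : Type v} [Fintype α] [DecidableEq α]

namespace Base

variable {G : Subgroup (Equiv.Perm α)} {A : Subgroup G} {o : α} {u t : G} (S : Base G A o u t)
include S

/-- `t` fixes only the two points. -/
def TwoFixed (o : α) (u t : G) : Prop := ∀ x, t • x = x → x = o ∨ x = u • o

variable (h2f : TwoFixed o u t)
include h2f

theorem two_trans_F {y : α} (hy : y ≠ o) : ∃ c ∈ S.F o, c • (u • o) = y :=
  S.F_trans (fun x hx hxo => ⟨1, Subgroup.one_mem _, by
    rw [one_smul, (h2f x hx).resolve_left hxo]⟩) y hy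

theorem two_eq_one {c : G} (hc : c ∈ S.F o) (htc : c * t = t * c) : c = 1 := by
  rcases h2f _ (S.comm_smul htc S.tuo) with h | h
  · exact absurd ((MulAction.injective c) (h.trans (S.F_le o hc).symm)) S.ou.symm
  · exact S.F_free hc S.ou.symm h

theorem two_inverts {a : G} (ha : a ∈ S.F o) : t * a * t⁻¹ = a⁻¹ := by
  have h1 : t * a * t⁻¹ ∈ S.F o := S.F_conj S.to' ha
  have hc : (t * a * t⁻¹ * a) * t = t * (t * a * t⁻¹ * a) := by
    rw [S.F_comm o h1 ha]
    calc a * (t * a * t⁻¹) * t = a * t * a := by group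
      _ = (t * t) * a * t * a := by rw [S.t2, one_mul]
      _ = t * ((t * a * t⁻¹) * a) := by rw [S.t_inv]; group
      _ = t * (a * (t * a * t⁻¹)) := by rw [S.F_comm o h1 ha]
  exact eq_inv_of_mul_eq_one_left (S.two_eq_one h2f (Subgroup.mul_mem _ h1 ha) hc)

theorem two_ne_bot : S.F o ≠ ⊥ := by
  intro e
  have h5 := S.five_le
  obtain ⟨z, hz⟩ : ∃ z, z ∉ ({o, u • o} : Finset α) := by
    by_contra hc
    push Not at hc
    have h := Finset.card_le_card (fun x (_ : x ∈ (Finset.univ : Finset α)) => hc x)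
    have h' := (Finset.card_insert_le o ({u • o} : Finset α))
    rw [Finset.card_univ] at h
    rw [Finset.card_singleton] at h'
    omega
  simp only [Finset.mem_insert, Finset.mem_singleton, not_or] at hz
  obtain ⟨c, hc, hcz⟩ := S.two_trans_F h2f hz.1
  rw [e, Subgroup.mem_bot] at hc
  rw [hc, one_smul] at hcz
  exact hz.2 hcz.symm

/-- The derived subgroup of a stabiliser has prime order. -/
theorem two_prime : ∃ p, p.Prime ∧ Nat.card (S.F o) = p ∧ Fintype.card α = p + 1 := by
  classical
  have hreg : ∀ β γ : α, β ≠ o → γ ≠ o → ∃! a : G, a ∈ S.F o ∧ a • β = γ := by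
    intro β γ hβ hγ
    obtain ⟨c, hc, rfl⟩ := S.two_trans_F h2f hβ
    obtain ⟨d, hd, rfl⟩ := S.two_trans_F h2f hγ
    refine ⟨d * c⁻¹, ⟨Subgroup.mul_mem _ hd (Subgroup.inv_mem _ hc), by
      rw [mul_smul, inv_smul_smul]⟩, ?_⟩
    rintro a ⟨ha, e⟩
    have h1 : d⁻¹ * (a * c) = 1 := S.F_free
      (Subgroup.mul_mem _ (Subgroup.inv_mem _ hd) (Subgroup.mul_mem _ ha hc)) S.ou.symm (by
        rw [mul_smul, mul_smul, e, inv_smul_smul])
    rw [inv_mul_eq_one] at h1
    rw [h1]; group
  haveI hFc : IsCyclic (S.F o) := S.F_cyclic o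
  letI : CommGroup (S.F o) := IsCyclic.commGroup
  have hAn : ∀ y ∈ stabilizer G o, Cfsg.conjBy (S.F o) y = S.F o := by
    intro y hy
    ext a
    constructor
    · rintro ⟨c, hc, rfl⟩
      exact S.F_conj hy hc
    · intro ha
      refine ⟨y⁻¹ * a * y, ?_, ?_⟩
      · have := S.F_conj (g := y⁻¹) (by rw [inv_smul_eq_iff]; exact hy.symm) ha
        rwa [inv_inv] at this
      · simp [MulAut.conj_apply, mul_assoc]
  obtain ⟨hpair, -⟩ := Cfsg.Agent.S5015.result (Y := G) (Ω := α) S.h2
    (by
      rw [ENat.card_eq_coe_fintype_card]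
      exact_mod_cast (by have := S.five_le; omega : 3 ≤ Fintype.card α))
    o (S.F o) (S.F_le o) hAn inferInstance hreg u (fun h => S.ou h.symm)
  have hpt : ∀ g₁ g₂ : G, Cfsg.conjBy (S.F o) g₁ = Cfsg.conjBy (S.F o) g₂ → g₁ • o = g₂ • o := by
    intro g₁ g₂ e
    obtain ⟨a, ha, ha1⟩ := (Subgroup.bot_or_exists_ne_one (S.F o)).resolve_left (S.two_ne_bot h2f)
    have h1 : g₁ * a * g₁⁻¹ ∈ Cfsg.conjBy (S.F o) g₂ := e ▸ ⟨a, ha, rfl⟩
    obtain ⟨c, hc, hce⟩ := h1
    have hfix : (g₁ * a * g₁⁻¹) • (g₂ • o) = g₂ • o := by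
      rw [← hce]
      show (g₂ * c * g₂⁻¹) • (g₂ • o) = g₂ • o
      rw [mul_smul, mul_smul, inv_smul_smul]
      exact congrArg _ (S.F_le o hc)
    by_contra hne
    refine ha1 (S.F_free (x := o) (y := g₁⁻¹ • g₂ • o) ha (fun h => hne ?_) ?_)
    · rw [inv_smul_eq_iff] at h
      exact h.symm
    · conv_rhs => rw [← hfix]
      rw [mul_smul, mul_smul, inv_smul_smul]
  have hspec : Cfsg.IsSpecialRankOnePair (S.F o) (Cfsg.conjBy (S.F o) u) := by
    refine ⟨hpair, fun a ha ha1 b hb hb1 e => ?_⟩
    obtain ⟨c, hc, hcb⟩ := hb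
    have hcb' : u * c * u⁻¹ = b := hcb
    have hbo' : b • (u • o) = u • o := by
      rw [← hcb', mul_smul, mul_smul, inv_smul_smul]
      exact congrArg _ (S.F_le o hc)
    have hbo : b⁻¹ • o = a⁻¹ • u • o := by
      have e' : Cfsg.conjBy (S.F o) b⁻¹ = Cfsg.conjBy (S.F o) (a⁻¹ * u) := by
        rw [e, Cfsg.conjBy, Cfsg.conjBy, Cfsg.conjBy, Subgroup.map_map]
        congr 1
      rw [hpt _ _ e', mul_smul]
    have hta : t * a * t⁻¹ = a⁻¹ := S.two_inverts h2f ha
    have htb : t * b * t⁻¹ = b⁻¹ := by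
      have htc := S.two_inverts h2f hc
      rw [← hcb', show t * (u * c * u⁻¹) * t⁻¹ = (t * u) * c * (t * u)⁻¹ by group, S.tu,
        show u * t * c * (u * t)⁻¹ = u * (t * c * t⁻¹) * u⁻¹ by group, htc]
      group
    set m := a * b⁻¹ * a with hm
    have hao : a • o = o := S.F_le o ha
    have hmo : m • o = u • o := by rw [hm, mul_smul, mul_smul, hao, hbo, smul_inv_smul]
    have htm : t * m * t⁻¹ = m⁻¹ := by
      rw [hm, show t * (a * b⁻¹ * a) * t⁻¹ = (t * a * t⁻¹) * (t * b * t⁻¹)⁻¹ * (t * a * t⁻¹) by group,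
        hta, htb]
      group
    have hmo' : m • (u • o) = o := by
      have h1 : m⁻¹ • o = u • o := by
        rw [← htm, mul_smul, mul_smul, S.t_inv, S.to', hmo, S.tuo]
      rw [← h1, smul_inv_smul]
    have hmt : m * t = t * m :=
      S.comm_of_fix S.ou S.to' S.tuo (by rw [hmo]; exact S.tuo) (by rw [hmo']; exact S.to')
    have hminv : m⁻¹ = m := by rw [← htm, ← hmt, mul_inv_cancel_right]
    have hmeq : m = a⁻¹ * b * a⁻¹ := by rw [← hminv, hm]; group
    -- conjugating `a` by the swapping element gives `b⁻¹`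
    have hconj : m * a * m⁻¹ = b⁻¹ := by
      have h1 : m * a * m⁻¹ ∈ S.F (u • o) := hmo ▸ S.F_map ha
      have h2' : b⁻¹ ∈ S.F (u • o) := by
        rw [← hcb']
        exact Subgroup.inv_mem _ (S.F_map hc)
      have h3 : b * (m * a * m⁻¹) = 1 := by
        refine S.F_free (x := u • o) (y := o)
          (Subgroup.mul_mem _ (by simpa using Subgroup.inv_mem _ h2') h1) S.ou ?_
        have h4 : (m * a * m⁻¹) • o = a⁻¹ • u • o := by
          rw [mul_smul, mul_smul, hminv, hmo, hmeq, mul_smul, mul_smul, inv_smul_smul, hbo']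
        rw [mul_smul, h4, ← hbo, smul_inv_smul]
      exact eq_inv_of_mul_eq_one_right h3
    rw [hminv] at hconj
    have hmm : m * m = 1 := by
      conv_lhs => arg 1; rw [← hminv]
      exact inv_mul_cancel m
    clear_value m
    have hbi : b⁻¹ = a⁻¹ * m * a⁻¹ := by rw [hm]; group
    have hb' : b = m * a⁻¹ * m := by
      calc b = (m * a * m)⁻¹ := by rw [hconj, inv_inv]
        _ = m⁻¹ * a⁻¹ * m⁻¹ := by group
        _ = m * a⁻¹ * m := by rw [hminv]
    -- the defining relation
    calc b⁻¹ * a * b = a⁻¹ * m * a⁻¹ * a * (m * a⁻¹ * m) := by rw [← hbi, ← hb']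
      _ = a⁻¹ * (m * m) * a⁻¹ * m := by group
      _ = a⁻¹ * a⁻¹ * m := by rw [hmm, mul_one]
      _ = a⁻¹ * b⁻¹ * a := by rw [hm]; group
  have hFcomm : IsMulCommutative (S.F o) := ⟨⟨fun x y => mul_comm x y⟩⟩
  obtain ⟨a₀, ha₀, ha₁⟩ := (Subgroup.bot_or_exists_ne_one (S.F o)).resolve_left (S.two_ne_bot h2f)
  rcases CfsgLib.Perm.SpecialRankOne.dichotomy hspec hFcomm with ⟨p, hp, -, hpow⟩ | ⟨htf, -⟩
  · refine ⟨p, hp, ?_, ?_⟩
    · obtain ⟨g, hg⟩ := hFc.exists_generator
      rw [← orderOf_eq_card_of_forall_mem_zpowers hg]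
      haveI := Fact.mk hp
      refine orderOf_eq_prime (Subtype.ext (hpow g g.2)) fun h => ha₁ ?_
      have h7 := hg ⟨a₀, ha₀⟩
      rw [h, Subgroup.zpowers_one_eq_bot, Subgroup.mem_bot] at h7
      exact congrArg Subtype.val h7
    · have hc : Nat.card (S.F o) = p := by
        obtain ⟨g, hg⟩ := hFc.exists_generator
        rw [← orderOf_eq_card_of_forall_mem_zpowers hg]
        haveI := Fact.mk hp
        refine orderOf_eq_prime (Subtype.ext (hpow g g.2)) fun h => ha₁ ?_
        have h7 := hg ⟨a₀, ha₀⟩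
        rw [h, Subgroup.zpowers_one_eq_bot, Subgroup.mem_bot] at h7
        exact congrArg Subtype.val h7
      have hbij : Nat.card (S.F o) = Nat.card {y : α // y ≠ o} := by
        refine Nat.card_congr (Equiv.ofBijective (fun c : S.F o => ⟨(c : G) • (u • o), fun e => ?_⟩) ⟨?_, ?_⟩)
        · exact S.ou.symm ((MulAction.injective (c : G)) (e.trans (S.F_le o c.2).symm))
        · intro c d e
          obtain ⟨w, -, huniq⟩ := hreg (u • o) ((d : G) • (u • o)) S.ou.symm (fun e' =>
            S.ou.symm ((MulAction.injective (d : G)) (e'.trans (S.F_le o d.2).symm)))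
          exact Subtype.ext ((huniq c ⟨c.2, congrArg Subtype.val e⟩).trans (huniq d ⟨d.2, rfl⟩).symm)
        · rintro ⟨y, hy⟩
          obtain ⟨c, hc, e⟩ := S.two_trans_F h2f hy
          exact ⟨⟨c, hc⟩, Subtype.ext e⟩
      rw [hc, Nat.card_eq_fintype_card] at hbij
      simp [Fintype.card_subtype_compl] at hbij
      have := S.five_le
      omega
  · exact absurd (isOfFinOrder_of_finite a₀) (htf a₀ ha₀ ha₁)

theorem two_good : ∃ p, Good G p := by
  classical
  obtain ⟨p, hp, hFp, hcard⟩ := S.two_prime h2f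
  have h5 := S.five_le
  have hodd : p ≠ 2 := by
    intro h
    rw [h] at hcard
    omega
  -- three points
  have free0 : ∀ g : G, g • o = o → g • (u • o) = u • o → ∀ z, z ≠ o → z ≠ u • o → g • z = z →
      g = 1 := by
    intro g hgo hgu z hzo hzu hgz
    obtain ⟨k, hk, rfl⟩ := S.two_trans_F h2f hzo
    have hk1 : k ≠ 1 := by rintro rfl; exact hzu (one_smul _ _)
    have h1 : k⁻¹ * (g * k * g⁻¹) = 1 := by
      refine S.F_free (Subgroup.mul_mem _ (Subgroup.inv_mem _ hk) (S.F_conj hgo hk)) S.ou.symm ?_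
      rw [mul_smul, mul_smul, mul_smul, inv_smul_eq_iff.mpr hgu.symm, hgz, inv_smul_smul]
    have hcomm : Commute g k := by
      rw [inv_mul_eq_one] at h1
      exact (mul_inv_eq_iff_eq_mul.mp h1.symm)
    haveI := Fact.mk hp
    refine eq_of_smul_eq_smul (α := α) fun y => ?_
    rw [one_smul]
    by_cases hy : y = o
    · rw [hy, hgo]
    obtain ⟨c, hc, rfl⟩ := S.two_trans_F h2f hy
    have hmem := mem_zpowers_of_prime_card (g := (⟨k, hk⟩ : S.F o)) (g' := ⟨c, hc⟩) hFp
      (fun e => hk1 (congrArg Subtype.val e))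
    obtain ⟨m, hm⟩ := Subgroup.mem_zpowers_iff.mp hmem
    have hm' : k ^ m = c := by simpa using congrArg Subtype.val hm
    rw [← hm', ← mul_smul, (hcomm.zpow_right m).eq, mul_smul, hgu]
  have hfree : ∀ (g : G) (a b c : α), a ≠ b → a ≠ c → b ≠ c → g • a = a → g • b = b → g • c = c →
      g = 1 := by
    intro g a b c hab hac hbc ha hb hc
    obtain ⟨k, hka, hkb⟩ := S.exists_pair hab S.ou
    refine conj_eq_one_iff.mp (free0 (k * g * k⁻¹) ?_ ?_ (k • c) ?_ ?_ ?_)
    · rw [← hka, mul_smul, mul_smul, inv_smul_smul, ha]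
    · rw [← hkb, mul_smul, mul_smul, inv_smul_smul, hb]
    · exact fun e => hac ((MulAction.injective k) (hka.trans e.symm))
    · exact fun e => hbc ((MulAction.injective k) (hkb.trans e.symm))
    · rw [mul_smul, mul_smul, inv_smul_smul, hc]
  -- the pair stabiliser is transitive on the other points
  let Hset : Finset G := Finset.univ.filter (fun g => g • o = o ∧ g • (u • o) = u • o)
  let others : Finset α := Finset.univ.filter (fun z => z ≠ o ∧ z ≠ u • o)
  have hbound : others.card ≤ 2 * (Hset.card - 1) := by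
    have hex : ∀ z ∈ others, ∃ s : G, s ≠ 1 ∧ s * s = 1 ∧ s • z = z ∧ s • t • z = t • z := by
      intro z hz
      simp only [others, Finset.mem_filter, Finset.mem_univ, true_and] at hz
      exact S.exists_tau (fun e => (h2f z e.symm).elim hz.1 hz.2)
    choose! s hs using hex
    have hfix : ∀ z ∈ others, ∀ x, s z • x = x → x = z ∨ x = t • z := by
      intro z hz x hx
      have hz' := hz
      simp only [others, Finset.mem_filter, Finset.mem_univ, true_and] at hz'
      obtain ⟨hs1, hs2, hsz, hstz⟩ := hs z hz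
      have hne : z ≠ t • z := fun e => (h2f z e.symm).elim hz'.1 hz'.2
      obtain ⟨g, hg1, hg2⟩ := S.exists_pair hne S.ou
      have he : g * s z * g⁻¹ = t := by
        refine S.tau_unique S.ou ?_ ?_ ?_ ?_ S.t1 S.t2 S.to' S.tuo
        · exact fun e => hs1 (conj_eq_one_iff.mp e)
        · rw [show g * s z * g⁻¹ * (g * s z * g⁻¹) = g * (s z * s z) * g⁻¹ by group, hs2]; group
        · rw [← hg1, mul_smul, mul_smul, inv_smul_smul, hsz]
        · rw [← hg2, mul_smul, mul_smul, inv_smul_smul, hstz]
      have h7 : t • (g • x) = g • x := by rw [← he, mul_smul, mul_smul, inv_smul_smul, hx]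
      rcases h2f _ h7 with h | h
      · exact Or.inl ((MulAction.injective g) (h.trans hg1.symm))
      · exact Or.inr ((MulAction.injective g) (h.trans hg2.symm))
    have hswap : ∀ z ∈ others, s z • o = u • o ∧ s z • (u • o) = o := by
      intro z hz
      have hz' := hz
      simp only [others, Finset.mem_filter, Finset.mem_univ, true_and] at hz'
      obtain ⟨hs1, hs2, hsz, hstz⟩ := hs z hz
      have hne : z ≠ t • z := fun e => (h2f z e.symm).elim hz'.1 hz'.2
      have hts : t * s z * t⁻¹ = s z := by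
        refine S.tau_unique hne ?_ ?_ ?_ ?_ hs1 hs2 hsz hstz
        · exact fun e => hs1 (conj_eq_one_iff.mp e)
        · rw [show t * s z * t⁻¹ * (t * s z * t⁻¹) = t * (s z * s z) * t⁻¹ by group, hs2]; group
        · rw [S.t_inv, mul_smul, mul_smul, hstz, ← mul_smul, S.t2, one_smul]
        · rw [mul_smul, mul_smul, inv_smul_smul, hsz]
      have hcom : s z * t = t * s z := (mul_inv_eq_iff_eq_mul.mp hts).symm
      have h1 : s z • o = u • o := by
        refine (h2f _ (S.comm_smul hcom S.to')).resolve_left fun e => ?_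
        rcases hfix z hz o e with h | h
        · exact hz'.1 h.symm
        · refine hz'.1 ?_
          have h8 := congrArg (t • ·) h
          simp only [S.to', ← mul_smul, S.t2, one_smul] at h8
          exact h8.symm
      exact ⟨h1, by rw [← h1, ← mul_smul, hs2, one_smul]⟩
    refine (Finset.card_le_mul_card_image (f := fun z => u * s z) others 2 ?_).trans ?_
    · intro h hh
      obtain ⟨z₀, hz₀, rfl⟩ := Finset.mem_image.mp hh
      refine (Finset.card_le_card (t := ({z₀, t • z₀} : Finset α)) ?_).trans Finset.card_le_two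
      intro z hz
      rw [Finset.mem_filter] at hz
      have he : s z = s z₀ := mul_left_cancel hz.2
      rw [Finset.mem_insert, Finset.mem_singleton]
      exact hfix z₀ hz₀ z (by rw [← he]; exact (hs z hz.1).2.2.1)
    · refine Nat.mul_le_mul_left 2 ?_
      rw [← Finset.card_erase_of_mem (s := Hset) (a := (1 : G)) (by simp [Hset])]
      refine Finset.card_le_card ?_
      intro h hh
      obtain ⟨z, hz, rfl⟩ := Finset.mem_image.mp hh
      rw [Finset.mem_erase]
      refine ⟨fun e => ?_, ?_⟩
      · have h9 : s z = u := by rw [← S.u_inv]; exact eq_inv_of_mul_eq_one_right e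
        have := (hs z hz).2.2.1
        rw [h9] at this
        exact S.u_free z this
      · simp only [Hset, Finset.mem_filter, Finset.mem_univ, true_and]
        obtain ⟨h1, h2'⟩ := hswap z hz
        exact ⟨by rw [mul_smul, h1, S.uu], by rw [mul_smul, h2']⟩
  have horbit : ∀ z z', z ∈ others → z' ∈ others → ∃ g ∈ Hset, g • z = z' := by
    intro z z' hz hz'
    by_contra hno
    push Not at hno
    have hsub : ∀ w ∈ others, Hset.image (fun g => g • w) ⊆ others := by
      intro w hw x hx
      obtain ⟨g, hg, rfl⟩ := Finset.mem_image.mp hx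
      simp only [Hset, others, Finset.mem_filter, Finset.mem_univ, true_and] at hg hw ⊢
      exact ⟨fun e => hw.1 ((MulAction.injective g) (e.trans hg.1.symm)),
        fun e => hw.2 ((MulAction.injective g) (e.trans hg.2.symm))⟩
    have hinj : ∀ w ∈ others, (Hset.image (fun g => g • w)).card = Hset.card := by
      intro w hw
      refine Finset.card_image_of_injOn fun g hg k hk e => ?_
      simp only [Hset, others, Finset.coe_filter, Finset.mem_filter, Finset.mem_univ, true_and,
        Set.mem_setOf_eq] at hg hk hw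
      have e' : g • w = k • w := e
      refine inv_mul_eq_one.mp (hfree (g⁻¹ * k) o (u • o) w S.ou hw.1.symm hw.2.symm ?_ ?_ ?_)
      · rw [mul_smul, hk.1, inv_smul_eq_iff, hg.1]
      · rw [mul_smul, hk.2, inv_smul_eq_iff, hg.2]
      · rw [mul_smul, ← e', inv_smul_smul]
    have hdisj : Disjoint (Hset.image (fun g => g • z)) (Hset.image (fun g => g • z')) := by
      rw [Finset.disjoint_left]
      intro x hx hx'
      obtain ⟨g, hg, rfl⟩ := Finset.mem_image.mp hx
      obtain ⟨k, hk, e⟩ := Finset.mem_image.mp hx'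
      refine hno (k⁻¹ * g) ?_ (by rw [mul_smul, ← e, inv_smul_smul])
      simp only [Hset, Finset.mem_filter, Finset.mem_univ, true_and] at hg hk ⊢
      exact ⟨by rw [mul_smul, hg.1, inv_smul_eq_iff, hk.1],
        by rw [mul_smul, hg.2, inv_smul_eq_iff, hk.2]⟩
    have h1 := Finset.card_le_card (Finset.union_subset (hsub z hz) (hsub z' hz'))
    rw [Finset.card_union_of_disjoint hdisj, hinj z hz, hinj z' hz'] at h1
    have hpos : 0 < Hset.card := Finset.card_pos.mpr ⟨1, by simp [Hset]⟩
    omega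
  have h3 : IsMultiplyPretransitive G α 3 := by
    rw [isMultiplyPretransitive_iff]
    have key : ∀ x : Fin 3 ↪ α, ∀ z, z ∈ others → ∃ g : G,
        g • x 0 = o ∧ g • x 1 = u • o ∧ g • x 2 = z := by
      intro x z hz
      obtain ⟨g, hg0, hg1⟩ := S.exists_pair (x.injective.ne (show (0 : Fin 3) ≠ 1 by decide)) S.ou
      have hm : g • x 2 ∈ others := by
        simp only [others, Finset.mem_filter, Finset.mem_univ, true_and]
        exact ⟨fun e => x.injective.ne (show (2 : Fin 3) ≠ 0 by decide)
            ((MulAction.injective g) (e.trans hg0.symm)),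
          fun e => x.injective.ne (show (2 : Fin 3) ≠ 1 by decide)
            ((MulAction.injective g) (e.trans hg1.symm))⟩
      obtain ⟨k, hk, hk2⟩ := horbit _ _ hm hz
      simp only [Hset, Finset.mem_filter, Finset.mem_univ, true_and] at hk
      exact ⟨k * g, by rw [mul_smul, hg0, hk.1], by rw [mul_smul, hg1, hk.2],
        by rw [mul_smul, hk2]⟩
    intro x y
    obtain ⟨z₀, hz₀⟩ : others.Nonempty := by
      obtain ⟨z, hz⟩ : ∃ z, z ∉ ({o, u • o} : Finset α) := by
        by_contra hc
        push Not at hc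
        have h := Finset.card_le_card (fun w (_ : w ∈ (Finset.univ : Finset α)) => hc w)
        have h' := (Finset.card_insert_le o ({u • o} : Finset α))
        rw [Finset.card_univ] at h
        rw [Finset.card_singleton] at h'
        omega
      simp only [Finset.mem_insert, Finset.mem_singleton, not_or] at hz
      exact ⟨z, by simp only [others, Finset.mem_filter, Finset.mem_univ, true_and]; exact hz⟩
    obtain ⟨g, a0, a1, a2⟩ := key x z₀ hz₀
    obtain ⟨k, b0, b1, b2⟩ := key y z₀ hz₀
    refine ⟨k⁻¹ * g, ?_⟩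
    ext i
    rw [Function.Embedding.smul_apply, mul_smul]
    fin_cases i
    · exact inv_smul_eq_iff.mpr (a0.trans b0.symm)
    · exact inv_smul_eq_iff.mpr (a1.trans b1.symm)
    · exact inv_smul_eq_iff.mpr (a2.trans b2.symm)
  exact ⟨p, ⟨hp, hodd, hcard, h3, hfree, fun a b hab g h ga gb ha hb =>
    S.pair_comm hab ga gb ha hb⟩⟩

end Base

end CfsgLib.Factorization.CyclicZ
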