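import Mathlib
import Cfsg.Agent.Lib.Factorization.CyclicZGroup.LineGroup
import Cfsg.Agent.Lib.Factorization.CyclicZGroup.Two

/-!
# The involution fixes at most two points

If the centraliser of `t` induced a sharply triply transitive group on more than two fixed points,
then `u * t` would be conjugate to `t` by an element of the regular cyclic subgroup, and a Sylow
argument gives an element of the centraliser of `t` whose image contradicts the structure of that
group.
-/

set_option autoImplicit false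

namespace CfsgLib.Factorization.CyclicZ

open MulAction

universe u v

variable {α : Type v} [Fintype α] [DecidableEq α]

namespace Base

variable {G : Subgroup (Equiv.Perm α)} {A : Subgroup G} {o : α} {u t : G} (S : Base G A o u t)
include S

theorem many_absurd {q : ℕ} (hgood : Good S.lineHom.range q) : False := by
  classical
  set C : Subgroup G := Subgroup.centralizer ({t} : Set G) with hC
  let L := {x : α // t • x = x}
  let O : L := ⟨o, S.to'⟩
  let O' : L := ⟨u • o, S.tuo⟩
  have hOO' : O ≠ O' := fun e => S.ou (congrArg Subtype.val e)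
  have hcard : Fintype.card L = q + 1 := hgood.hcard
  have h4 : 4 ≤ Fintype.card L := hgood.four_le
  -- lifting from the induced group
  have lift : ∀ g : S.lineHom.range, ∃ k : C, S.lineHom.rangeRestrict k = g ∧
      ∀ x : L, ((g : S.lineHom.range) • x).1 = (k : G) • x.1 := by
    rintro ⟨_, k, rfl⟩
    exact ⟨k, rfl, fun x => rfl⟩
  -- an element of the derived subgroup centralising `t` moves `u • o`
  obtain ⟨z₁, hz₁, hz₁t, hz₁m⟩ : ∃ z ∈ S.F o, z * t = t * z ∧ z ≠ 1 := by
    by_contra hc
    push Not at hc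
    obtain ⟨c, c', hcO, hcO', hc'O, hc'O', hcc'⟩ : ∃ c c' : L, c ≠ O ∧ c ≠ O' ∧ c' ≠ O ∧ c' ≠ O' ∧
        c ≠ c' := by
      have : 2 ≤ ((Finset.univ : Finset L).filter (fun x => x ≠ O ∧ x ≠ O')).card := by
        have h1 : ((Finset.univ : Finset L).filter (fun x => x ≠ O ∧ x ≠ O')) =
            Finset.univ \ {O, O'} := by ext x; simp
        rw [h1, Finset.card_sdiff_of_subset (Finset.subset_univ _), Finset.card_pair hOO',
          Finset.card_univ]
        omega
      obtain ⟨c, hc1, c', hc2, hne⟩ := Finset.one_lt_card.mp this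
      simp only [Finset.mem_filter, Finset.mem_univ, true_and] at hc1 hc2
      exact ⟨c, c', hc1.1, hc1.2, hc2.1, hc2.2, hne⟩
    obtain ⟨s, hs1, hs2, hs3⟩ : ∃ s : S.lineHom.range, s • O = O ∧ s • O' = O' ∧ s • c = c' := by
      exact hgood.exists_map hOO' hcO.symm hcO'.symm hOO' hc'O.symm hc'O'.symm
    obtain ⟨k, -, hk⟩ := lift s
    have hko : (k : G) • o = o := (hk O).symm.trans (congrArg Subtype.val hs1)
    have hku : (k : G) • (u • o) = u • o := (hk O').symm.trans (congrArg Subtype.val hs2)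
    obtain ⟨g, hgo, hgc⟩ := S.exists_pair (x' := o) (y' := c.1) S.ou (fun e => hcO (Subtype.ext e.symm))
    have hgt : g * t = t * g := S.comm_of_fix S.ou S.to' S.tuo (by rw [hgo]; exact S.to')
      (by rw [hgc]; exact c.2)
    have hcomm : (k : G) * g * (k : G)⁻¹ * g⁻¹ = 1 := by
      refine hc _ (S.commutator_mem hko hgo) ?_
      exact S.centr_comm (C.mul_mem (C.mul_mem (C.mul_mem k.2 (S.mem_centr hgt)) (C.inv_mem k.2))
        (C.inv_mem (S.mem_centr hgt)))
    have e : (k : G) * g = g * (k : G) := by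
      rw [mul_inv_eq_one] at hcomm
      exact mul_inv_eq_iff_eq_mul.mp hcomm
    refine hcc' (Subtype.ext ?_)
    have h1 : (k : G) • c.1 = c'.1 := (hk c).symm.trans (congrArg Subtype.val hs3)
    rw [← h1, ← hgc]
    conv_rhs => rw [← mul_smul, e, mul_smul, hku]
  -- it generates a transitive group on the other fixed points
  have hFC : ∀ x : α, t • x = x → x ≠ o → ∃ c ∈ S.F o, c * t = t * c ∧ c • (u • o) = x := by
    let K : Subgroup G := S.F o ⊓ C
    let P := {x : L // x ≠ O}
    have hP : Nat.card P = q := by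
      rw [Nat.card_eq_fintype_card]
      simp [P, Fintype.card_subtype_compl]
      omega
    letI : MulAction K P :=
      { smul := fun a x => ⟨⟨(a : G) • x.1.1, S.comm_smul (S.centr_comm a.2.2) x.1.2⟩, fun e => x.2
          (Subtype.ext ((MulAction.injective (a : G))
            ((congrArg Subtype.val e).trans (S.F_le o a.2.1).symm)))⟩
        one_smul := fun x => Subtype.ext (Subtype.ext (one_smul G x.1.1))
        mul_smul := fun a b x => Subtype.ext (Subtype.ext (mul_smul (a : G) (b : G) x.1.1)) }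
    let w : P := ⟨O', fun e => hOO' e.symm⟩
    have hfree : ∀ x : P, stabilizer K x = ⊥ := by
      intro x
      rw [Subgroup.eq_bot_iff_forall]
      intro a ha
      exact Subtype.ext (S.F_free a.2.1 (fun e => x.2 (Subtype.ext e))
        (congrArg (fun y : P => y.1.1) (show a • x = x from ha)))
    have horb : ∀ x : P, Nat.card (orbit K x) = Nat.card K := by
      intro x
      rw [Nat.card_coe_set_eq, ← index_stabilizer, hfree, Subgroup.index_bot]
    have hdvd : Nat.card K ∣ q := by
      have e := Nat.card_congr (MulAction.selfEquivSigmaOrbits' K P)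
      rw [Nat.card_sigma] at e
      have hq : ∀ ω : orbitRel.Quotient K P, Nat.card ω.orbit = Nat.card K := by
        intro ω
        rw [orbitRel.Quotient.orbit_eq_orbit_out _ Quotient.out_eq']
        exact horb _
      rw [Finset.sum_congr rfl (fun ω _ => hq ω), Finset.sum_const, smul_eq_mul, hP] at e
      rw [e]
      exact Dvd.intro_left _ rfl
    have hKne : Nat.card K ≠ 1 := by
      intro e
      have := Subgroup.card_eq_one.mp e
      exact hz₁m ((Subgroup.eq_bot_iff_forall _).mp this z₁ ⟨hz₁, S.mem_centr hz₁t⟩)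
    have hKq : Nat.card K = q := ((Nat.dvd_prime hgood.hp).mp hdvd).resolve_left hKne
    intro x hx hxo
    have huniv : orbit K w = Set.univ := by
      refine Set.eq_of_subset_of_ncard_le (Set.subset_univ _) ?_
      rw [Set.ncard_univ, hP, ← Nat.card_coe_set_eq, horb, hKq]
    obtain ⟨a, ha⟩ : (⟨⟨x, hx⟩, fun e => hxo (congrArg Subtype.val e)⟩ : P) ∈ orbit K w :=
      huniv ▸ Set.mem_univ _
    exact ⟨a, a.2.1, S.centr_comm a.2.2, congrArg (fun y : P => y.1.1) ha⟩
  -- the kernel is central
  let InN : G → Prop := fun n => n * t = t * n ∧ ∀ x : α, t • x = x → n • x = x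
  have hNconj : ∀ g n : G, g * t = t * g → InN n → InN (g * n * g⁻¹) := by
    intro g n hg hn
    refine ⟨S.centr_comm (C.mul_mem (C.mul_mem (S.mem_centr hg) (S.mem_centr hn.1))
      (C.inv_mem (S.mem_centr hg))), fun x hx => ?_⟩
    rw [mul_smul, mul_smul, hn.2 _ (S.comm_smul
      (S.centr_comm (C.inv_mem (S.mem_centr hg))) hx), smul_inv_smul]
  have hcent0 : ∀ g : G, g * t = t * g → g • o = o → ∀ n, InN n → g * n = n * g := by
    intro g hg hgo n hn
    obtain ⟨c, hc, hct, hcu⟩ := hFC (g • (u • o)) (S.comm_smul hg S.tuo)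
      (fun e => S.ou ((MulAction.injective g) (hgo.trans e.symm)))
    have hcn : c * n = n * c := by
      have h1 : c * n * c⁻¹ * n⁻¹ = 1 := by
        refine S.F_free (S.commutator_mem (S.F_le o hc) (hn.2 o S.to')) S.ou.symm ?_
        have hni : n⁻¹ • (u • o) = u • o := by rw [inv_smul_eq_iff, hn.2 _ S.tuo]
        rw [mul_smul, hni]
        exact (hNconj c n hct hn).2 _ S.tuo
      rw [mul_inv_eq_one] at h1
      exact mul_inv_eq_iff_eq_mul.mp h1
    have hco : c⁻¹ • o = o := by rw [inv_smul_eq_iff]; exact (S.F_le o hc).symm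
    have h2 : (c⁻¹ * g) * n = n * (c⁻¹ * g) :=
      S.pair_comm S.ou (by rw [mul_smul, hgo, hco]) (by rw [mul_smul, ← hcu, inv_smul_smul])
        (hn.2 o S.to') (hn.2 _ S.tuo)
    calc g * n = c * ((c⁻¹ * g) * n) := by group
      _ = (c * n) * (c⁻¹ * g) := by rw [h2]; group
      _ = n * g := by rw [hcn]; group
  have hut : u * t = t * u := S.tu.symm
  have hcent1 : ∀ g : G, g * t = t * g → g • (u • o) = u • o → ∀ n, InN n → g * n = n * g := by
    intro g hg hgu n hn
    have h1 := hcent0 (u * g * u⁻¹)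
      (S.centr_comm (C.mul_mem (C.mul_mem (S.mem_centr hut) (S.mem_centr hg))
        (C.inv_mem (S.mem_centr hut))))
      (by rw [mul_smul, mul_smul, S.u_inv, hgu, S.uu]) (u * n * u⁻¹) (hNconj u n hut hn)
    have h2 : u * (g * n) * u⁻¹ = u * (n * g) * u⁻¹ := by
      calc u * (g * n) * u⁻¹ = (u * g * u⁻¹) * (u * n * u⁻¹) := by group
        _ = (u * n * u⁻¹) * (u * g * u⁻¹) := h1
        _ = u * (n * g) * u⁻¹ := by group
    exact mul_left_cancel (mul_right_cancel h2)
  have hcent : ∀ g : G, g * t = t * g → ∀ n, InN n → g * n = n * g := by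
    intro g hg n hn
    obtain ⟨c, c3⟩ : ∃ c : L, c ≠ O ∧ c ≠ O' := by
      by_contra hc
      push Not at hc
      have h := Finset.card_le_card (s := (Finset.univ : Finset L)) (t := {O, O'}) (fun x _ => by
        rw [Finset.mem_insert, Finset.mem_singleton]
        by_cases hx : x = O
        · exact Or.inl hx
        · exact Or.inr (hc x hx))
      rw [Finset.card_univ, Finset.card_pair hOO'] at h
      omega
    -- an element fixing one of the two points carries `o` to `g • o`
    have step : ∀ y : α, t • y = y → y ≠ u • o → ∃ k : G, k * t = t * k ∧ k • o = y ∧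
        k • (u • o) = u • o := by
      intro y hy hyu
      obtain ⟨k, hk1, hk2⟩ := S.exists_pair S.ou hyu
      exact ⟨k, S.comm_of_fix S.ou S.to' S.tuo (by rw [hk1]; exact hy) (by rw [hk2]; exact S.tuo),
        hk1, hk2⟩
    by_cases hgu : g • o = u • o
    · obtain ⟨k, hk, hko, hku⟩ := step c.1 c.2 (fun e => c3.2 (Subtype.ext e))
      have hcu : c.1 ≠ u • o := fun e => c3.2 (Subtype.ext e)
      obtain ⟨l, hl1, hl2⟩ := S.exists_pair (x := o) (y := c.1) (x' := o) (y' := u • o)
        (fun e => c3.1 (Subtype.ext e.symm)) S.ou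
      have hl : l * t = t * l := S.comm_of_fix (fun e => c3.1 (Subtype.ext e.symm)) S.to' c.2
        (by rw [hl1]; exact S.to') (by rw [hl2]; exact S.tuo)
      have hm : (l * k)⁻¹ * g * t = t * ((l * k)⁻¹ * g) :=
        S.centr_comm (C.mul_mem (C.inv_mem (C.mul_mem (S.mem_centr hl) (S.mem_centr hk)))
          (S.mem_centr hg))
      have h3 := hcent0 _ hm (by
        rw [mul_smul, hgu, inv_smul_eq_iff, mul_smul, hko, hl2]) n hn
      have h4 := hcent0 l hl hl1 n hn
      have h5 := hcent1 k hk hku n hn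
      calc g * n = l * k * (((l * k)⁻¹ * g) * n) := by group
        _ = l * (k * n) * ((l * k)⁻¹ * g) := by rw [h3]; group
        _ = (l * n) * k * ((l * k)⁻¹ * g) := by rw [h5]; group
        _ = n * g := by rw [h4]; group
    · obtain ⟨k, hk, hko, hku⟩ := step (g • o) (S.comm_smul hg S.to') hgu
      have hm : k⁻¹ * g * t = t * (k⁻¹ * g) :=
        S.centr_comm (C.mul_mem (C.inv_mem (S.mem_centr hk)) (S.mem_centr hg))
      have h3 := hcent0 _ hm (by rw [mul_smul, ← hko, inv_smul_smul]) n hn
      have h5 := hcent1 k hk hku n hn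
      calc g * n = k * ((k⁻¹ * g) * n) := by group
        _ = (k * n) * (k⁻¹ * g) := by rw [h3]; group
        _ = n * g := by rw [h5]; group
  -- conjugates of `t` in the centraliser have no fixed point among those of `t`
  have hA' : ∀ s : G, s ≠ 1 → s * s = 1 → s * t = t * s → s ≠ t → ∀ x : α, t • x = x → s • x ≠ x := by
    intro s hs1 hs2 hst hne x hx hsx
    obtain ⟨y, hy, hsy⟩ := exists_second_fixed S.line_even (S.lineHom ⟨s, S.mem_centr hst⟩)
      (fun z => Subtype.ext (show s • s • z.1 = z.1 by rw [← mul_smul, hs2, one_smul]))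
      (x := ⟨x, hx⟩) (Subtype.ext hsx)
    exact hne (S.tau_unique (fun e => hy (Subtype.ext e.symm)) hs1 hs2 hsx
      (congrArg Subtype.val hsy) S.t1 S.t2 hx y.2)
  -- the image of `u`
  let ub : S.lineHom.range := S.lineHom.rangeRestrict ⟨u, S.mem_centr hut⟩
  have hub : ∀ x : L, (ub • x).1 = u • x.1 := fun _ => rfl
  have hubf : ∀ x : L, ub • x ≠ x := fun x e => S.u_free x.1 (congrArg Subtype.val e)
  have hub1 : ub ≠ 1 := fun e => hubf O (by rw [e, one_smul])
  have hub2 : ub * ub = 1 := by
    rw [← map_mul]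
    convert map_one S.lineHom.rangeRestrict
    exact Subtype.ext S.u2
  obtain ⟨-, hDcyc, hDreg, -⟩ := S.line_facts
  obtain ⟨⟨dg, hdg⟩, hgen⟩ := hDcyc.exists_generator
  have hDord : orderOf dg = Fintype.card L := by
    rw [← Subgroup.orderOf_mk dg hdg, orderOf_eq_card_of_forall_mem_zpowers hgen, hDreg.card_eq O,
      Nat.card_eq_fintype_card]
  have hdg2 : dg * dg ≠ 1 := by
    intro e
    have h1 := Nat.le_of_dvd (by norm_num) (orderOf_dvd_of_pow_eq_one (show dg ^ 2 = 1 by rw [pow_two, e]))
    omega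
  have hDcomm : ∀ x ∈ S.lineD.map S.lineHom.rangeRestrict,
      ∀ y ∈ S.lineD.map S.lineHom.rangeRestrict, x * y = y * x := by
    intro x hx y hy
    letI : CommGroup ↥(S.lineD.map S.lineHom.rangeRestrict) := IsCyclic.commGroup
    exact congrArg Subtype.val
      (mul_comm (⟨x, hx⟩ : ↥(S.lineD.map S.lineHom.rangeRestrict)) ⟨y, hy⟩)
  have hubD : ub ∈ S.lineD.map S.lineHom.rangeRestrict := Subgroup.mem_map_of_mem _ S.uA
  have hE : ∀ x : S.lineHom.range, x * ub = ub * x → x * x ≠ 1 →
      x ∈ S.lineD.map S.lineHom.rangeRestrict := by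
    intro x hx hx2
    haveI : Nonempty L := ⟨O⟩
    have h1 := hgood.commute hub1 hx2 hdg2 hx (hDcomm dg hdg ub hubD)
    refine hDreg.mem_of_commute hDcomm fun y hy => ?_
    obtain ⟨m, hm⟩ := Subgroup.mem_zpowers_iff.mp (hgen ⟨y, hy⟩)
    have hm' : dg ^ m = y := by simpa using congrArg Subtype.val hm
    rw [← hm']
    exact Commute.zpow_right h1 m
  -- two-point stabiliser of the image
  have hbarUnique : ∀ x y : S.lineHom.range, x • O = O → x • O' = O' → y • O = O → y • O' = O' →
      x * x = 1 → y * y = 1 → x ≠ 1 → y ≠ 1 → x = y := by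
    intro x y hx hx' hy hy' hx2 hy2 hx1 hy1
    let K : Subgroup C := (stabilizer G o ⊓ stabilizer G (u • o)).subgroupOf C
    haveI := S.pair_cyclic S.ou
    haveI : IsCyclic K := isCyclic_of_injective
      (f := (⟨⟨fun d => (⟨((d : C) : G), d.2⟩ : ↥(stabilizer G o ⊓ stabilizer G (u • o))), rfl⟩,
        fun _ _ => rfl⟩ : ↥K →* ↥(stabilizer G o ⊓ stabilizer G (u • o))))
      (fun a b e => Subtype.ext (Subtype.ext
        (congrArg (fun z : ↥(stabilizer G o ⊓ stabilizer G (u • o)) => (z : G)) e)))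
    haveI : IsCyclic (K.map S.lineHom.rangeRestrict) :=
      isCyclic_of_surjective (f := S.lineHom.rangeRestrict.subgroupMap K)
        (MonoidHom.subgroupMap_surjective _ _)
    have hmem : ∀ z : S.lineHom.range, z • O = O → z • O' = O' →
        z ∈ K.map S.lineHom.rangeRestrict := by
      intro z hz hz'
      obtain ⟨k, hk1, hk⟩ := lift z
      exact ⟨k, ⟨(hk O).symm.trans (congrArg Subtype.val hz),
        (hk O').symm.trans (congrArg Subtype.val hz')⟩, hk1⟩
    have h := eq_of_involutions (x := (⟨x, hmem x hx hx'⟩ : K.map S.lineHom.rangeRestrict))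
      (y := ⟨y, hmem y hy hy'⟩) (fun e => hx1 (congrArg Subtype.val e)) (Subtype.ext hx2)
      (fun e => hy1 (congrArg Subtype.val e)) (Subtype.ext hy2)
    exact congrArg Subtype.val h
  -- `u * t` has a fixed point
  obtain ⟨z₀, hz₀⟩ : ∃ z₀ : α, (u * t) • z₀ = z₀ := by
    obtain ⟨z, hz⟩ : ∃ z, t • z ≠ z := not_forall.mp fun hc =>
      S.t1 (eq_of_smul_eq_smul (α := α) fun x => by rw [hc x, one_smul])
    obtain ⟨g, hg1, hg2⟩ := S.exists_pair (Ne.symm hz) S.ou
    set v := g * t * g⁻¹ with hv
    have hv1 : v ≠ 1 := fun e => S.t1 (conj_eq_one_iff.mp e)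
    have hv2 : v * v = 1 := by
      rw [hv, show g * t * g⁻¹ * (g * t * g⁻¹) = g * (t * t) * g⁻¹ by group, S.t2]; group
    have hvo : v • o = u • o := by
      rw [hv, mul_smul, mul_smul, ← hg1, inv_smul_smul, hg2, hg1]
    have hvu : v • (u • o) = o := by rw [← hvo, ← mul_smul, hv2, one_smul]
    have hvt : v * t = t * v := S.comm_of_fix S.ou S.to' S.tuo (by rw [hvo]; exact S.tuo)
      (by rw [hvu]; exact S.to')
    have hvne : v ≠ t := by
      intro e
      rw [e, S.to'] at hvo
      exact S.ou hvo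
    have hvfix : v • (g • o) = g • o := by rw [hv, mul_smul, mul_smul, inv_smul_smul, S.to']
    let vb : S.lineHom.range := S.lineHom.rangeRestrict ⟨v, S.mem_centr hvt⟩
    have hvbf : ∀ x : L, vb • x ≠ x := fun x e =>
      hA' v hv1 hv2 hvt hvne x.1 x.2 (congrArg Subtype.val e)
    -- swappers in the image
    let Hs : Finset S.lineHom.range := Finset.univ.filter (fun k => k • O = O ∧ k • O' = O')
    let W : Finset S.lineHom.range := Finset.univ.filter (fun k => k • O = O' ∧ k • O' = O)
    obtain ⟨c, hcO, hcO'⟩ : ∃ c : L, c ≠ O ∧ c ≠ O' := by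
      by_contra hc
      push Not at hc
      have h := Finset.card_le_card (s := (Finset.univ : Finset L)) (t := {O, O'}) (fun x _ => by
        rw [Finset.mem_insert, Finset.mem_singleton]
        by_cases hx : x = O
        · exact Or.inl hx
        · exact Or.inr (hc x hx))
      rw [Finset.card_univ, Finset.card_pair hOO'] at h
      omega
    obtain ⟨w, hw1, hw2, hwc⟩ := CfsgLib.Perm.SharpThreeFrame.exists_swap S.lineHom.range hgood.h3
      hOO' hcO.symm hcO'.symm
    have hubO : ub • O = O' := Subtype.ext rfl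
    have hubO' : ub • O' = O := Subtype.ext (S.uu o)
    have hWcard : W.card ≤ Hs.card := by
      refine Finset.card_le_card_of_injOn (fun k => ub * k) ?_ (fun a _ b _ e => mul_left_cancel e)
      intro k hk
      simp only [W, Hs, Finset.coe_filter, Finset.mem_filter, Finset.mem_univ, true_and,
        Set.mem_setOf_eq] at hk ⊢
      exact ⟨by rw [mul_smul, hk.1, hubO'], by rw [mul_smul, hk.2, hubO]⟩
    have hconjW : ∀ s ∈ W, ∀ k ∈ Hs, k * s * k⁻¹ ∈ W := by
      intro s hs k hk
      simp only [W, Hs, Finset.mem_filter, Finset.mem_univ, true_and] at hs hk ⊢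
      exact ⟨by rw [mul_smul, mul_smul, inv_smul_eq_iff.mpr hk.1.symm, hs.1, hk.2],
        by rw [mul_smul, mul_smul, inv_smul_eq_iff.mpr hk.2.symm, hs.2, hk.1]⟩
    have huW : ub ∈ W := by simp [W, hubO, hubO']
    have hwW : w ∈ W := by simp [W, hw1, hw2]
    -- stabilisers of the two swappers have order at most two
    have hcu : ((Hs.filter (fun k => k * ub = ub * k))).card ≤ 2 := by
      have hsq : ∀ k ∈ Hs, k * ub = ub * k → k * k = 1 := by
        intro k hk e
        by_contra hk2
        simp only [Hs, Finset.mem_filter, Finset.mem_univ, true_and] at hk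
        exact hk2 (by rw [hDreg.free k (hE k e hk2) O hk.1, one_mul])
      by_cases hex : ∃ x ∈ Hs.filter (fun k => k * ub = ub * k), x ≠ 1
      · obtain ⟨x, hx, hx1⟩ := hex
        refine (Finset.card_le_card (t := {1, x}) ?_).trans Finset.card_le_two
        intro k hk
        rw [Finset.mem_insert, Finset.mem_singleton]
        by_cases hk1 : k = 1
        · exact Or.inl hk1
        · rw [Finset.mem_filter] at hk hx
          have hk' := hk.1
          have hx' := hx.1
          simp only [Hs, Finset.mem_filter, Finset.mem_univ, true_and] at hk' hx'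
          exact Or.inr (hbarUnique k x hk'.1 hk'.2 hx'.1 hx'.2 (hsq k hk.1 hk.2) (hsq x hx.1 hx.2)
            hk1 hx1)
      · push Not at hex
        refine (Finset.card_le_card (t := {1}) ?_).trans (by simp)
        intro k hk
        rw [Finset.mem_singleton]
        exact hex k hk
    have hcw : ((Hs.filter (fun k => k * w = w * k))).card ≤ 2 := by
      have hfix2 : ((Finset.univ : Finset L).filter (fun x => w • x = x)).card ≤ 2 := by
        by_contra hgt
        push Not at hgt
        obtain ⟨a, b, e, ha, hb, he, hab, hae, hbe⟩ := Finset.two_lt_card_iff.mp hgt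
        simp only [Finset.mem_filter, Finset.mem_univ, true_and] at ha hb he
        have hw0 := hgood.free w a b e hab hae hbe ha hb he
        rw [hw0, one_smul] at hw1
        exact hOO' hw1
      refine le_trans ?_ hfix2
      refine Finset.card_le_card_of_injOn (fun k => k • c) ?_ ?_
      · intro k hk
        simp only [Finset.coe_filter, Finset.mem_filter, Finset.mem_univ, true_and,
          Set.mem_setOf_eq] at hk ⊢
        rw [← mul_smul, ← hk.2, mul_smul, hwc]
      · intro a ha b hb e
        simp only [Hs, Finset.coe_filter, Finset.mem_filter, Finset.mem_univ, true_and,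
          Set.mem_setOf_eq] at ha hb
        refine inv_mul_eq_one.mp (hgood.free (a⁻¹ * b) O O' c hOO' hcO.symm hcO'.symm ?_ ?_ ?_)
        · rw [mul_smul, hb.1.1, inv_smul_eq_iff, ha.1.1]
        · rw [mul_smul, hb.1.2, inv_smul_eq_iff, ha.1.2]
        · have e' : a • c = b • c := e
          rw [mul_smul, ← e', inv_smul_smul]
    have horbit : ∀ s : S.lineHom.range, ((Hs.filter (fun k => k * s = s * k))).card ≤ 2 →
        Hs.card ≤ 2 * (Hs.image (fun k => k * s * k⁻¹)).card := by
      intro s hs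
      refine Finset.card_le_mul_card_image Hs 2 ?_
      intro y hy
      obtain ⟨k₀, hk₀, rfl⟩ := Finset.mem_image.mp hy
      refine le_trans ?_ hs
      refine Finset.card_le_card_of_injOn (fun k => k₀⁻¹ * k) ?_ (fun a _ b _ e => mul_left_cancel e)
      intro k hk
      simp only [Hs, Finset.coe_filter, Finset.mem_filter, Finset.mem_univ, true_and,
        Set.mem_setOf_eq] at hk hk₀ ⊢
      refine ⟨⟨?_, ?_⟩, ?_⟩
      · rw [mul_smul, hk.1.1, inv_smul_eq_iff, hk₀.1]
      · rw [mul_smul, hk.1.2, inv_smul_eq_iff, hk₀.2]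
      · calc k₀⁻¹ * k * s = k₀⁻¹ * (k * s * k⁻¹) * k := by group
          _ = k₀⁻¹ * (k₀ * s * k₀⁻¹) * k := by rw [hk.2]
          _ = s * (k₀⁻¹ * k) := by group
    set I₁ := Hs.image (fun k => k * ub * k⁻¹) with hI₁
    set I₂ := Hs.image (fun k => k * w * k⁻¹) with hI₂
    have hdisj : Disjoint I₁ I₂ := by
      rw [Finset.disjoint_left]
      intro x hx hx'
      obtain ⟨a, -, rfl⟩ := Finset.mem_image.mp hx
      obtain ⟨b, -, e⟩ := Finset.mem_image.mp hx'
      refine hubf (a⁻¹ • b • c) ?_
      have h1 : (a * ub * a⁻¹) • (b • c) = b • c := by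
        rw [← e, mul_smul, mul_smul, inv_smul_smul, hwc]
      rw [mul_smul, mul_smul] at h1
      conv_rhs => rw [← h1]
      rw [inv_smul_smul]
    have hsub : I₁ ∪ I₂ ⊆ W := by
      refine Finset.union_subset ?_ ?_ <;> intro x hx <;> obtain ⟨k, hk, rfl⟩ := Finset.mem_image.mp hx
      · exact hconjW ub huW k hk
      · exact hconjW w hwW k hk
    have heq : I₁ ∪ I₂ = W := by
      refine Finset.eq_of_subset_of_card_le hsub ?_
      rw [Finset.card_union_of_disjoint hdisj]
      have h1 := horbit ub hcu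
      have h2 := horbit w hcw
      rw [← hI₁] at h1
      rw [← hI₂] at h2
      omega
    have hvW : vb ∈ W := by
      simp only [W, Finset.mem_filter, Finset.mem_univ, true_and]
      exact ⟨Subtype.ext hvo, Subtype.ext hvu⟩
    rw [← heq, Finset.mem_union] at hvW
    rcases hvW with h | h
    · obtain ⟨kb, -, hkb⟩ := Finset.mem_image.mp h
      obtain ⟨k, hk, -⟩ := lift kb
      set u' := (k : G) * u * (k : G)⁻¹ with hu'
      have hu't : u' * t = t * u' :=
        S.centr_comm (C.mul_mem (C.mul_mem k.2 (S.mem_centr hut)) (C.inv_mem k.2))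
      have hu'i : u'⁻¹ = u' := by rw [hu', mul_inv_rev, mul_inv_rev, inv_inv, S.u_inv, mul_assoc]
      have himg : S.lineHom.rangeRestrict ⟨u', S.mem_centr hu't⟩ = vb := by
        rw [← hkb, ← hk, ← map_inv, ← map_mul, ← map_mul]
        rfl
      set n := u'⁻¹ * v with hn'
      have hn : InN n := by
        refine ⟨S.centr_comm (C.mul_mem (C.inv_mem (S.mem_centr hu't)) (S.mem_centr hvt)),
          fun x hx => ?_⟩
        have h1 : u' • x = v • x :=
          congrArg (fun g : S.lineHom.range => (g • (⟨x, hx⟩ : L)).1) himg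
        rw [hn', mul_smul, ← h1, inv_smul_smul]
      have hv' : v = u' * n := by rw [hn']; group
      have hn2 : n * n = 1 := by
        have hc' := hcent u' hu't n hn
        have h1 := hv2
        rw [hv', show u' * n * (u' * n) = u' * (n * u') * n by group, ← hc',
          show u' * (u' * n) * n = u' * u' * (n * n) by group] at h1
        conv_lhs at h1 => arg 1; arg 1; rw [← hu'i]
        rwa [inv_mul_cancel, one_mul] at h1
      by_cases hn1 : n = 1
      · exfalso
        rw [hn1, mul_one, hu'] at hv'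
        rw [hv', mul_smul, mul_smul] at hvfix
        refine S.u_free ((k : G)⁻¹ • g • o) ?_
        conv_rhs => rw [← hvfix]
        rw [inv_smul_smul]
      · have hnt : n = t := S.tau_unique S.ou hn1 hn2 (hn.2 o S.to') (hn.2 _ S.tuo) S.t1 S.t2
          S.to' S.tuo
        refine ⟨(k : G)⁻¹ • g • o, ?_⟩
        have hvk : v = (k : G) * (u * t) * (k : G)⁻¹ := by
          rw [hv', hnt, hu']
          calc (k : G) * u * (k : G)⁻¹ * t = (k : G) * u * ((k : G)⁻¹ * t) := by group
            _ = (k : G) * u * (t * (k : G)⁻¹) := by rw [S.centr_comm (C.inv_mem k.2)]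
            _ = (k : G) * (u * t) * (k : G)⁻¹ := by group
        rw [hvk, mul_smul, mul_smul] at hvfix
        conv_rhs => rw [← hvfix]
        rw [inv_smul_smul]
    · exfalso
      obtain ⟨kb, -, hkb⟩ := Finset.mem_image.mp h
      exact hvbf (kb • c) (by rw [← hkb, mul_smul, mul_smul, inv_smul_smul, hwc])
  -- the element of the regular subgroup conjugating `t` to `u * t`
  obtain ⟨a, haA, hao⟩ := S.reg.trans o z₀
  have hat : a * t * a⁻¹ = u * t := by
    refine S.tau_unique (x := z₀) (y := u • z₀) (S.u_free z₀).symm ?_ ?_ ?_ ?_ ?_ ?_ hz₀ ?_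
    · exact fun e => S.t1 (conj_eq_one_iff.mp e)
    · rw [show a * t * a⁻¹ * (a * t * a⁻¹) = a * (t * t) * a⁻¹ by group, S.t2]; group
    · rw [← hao, mul_smul, mul_smul, inv_smul_smul, S.to']
    · rw [← hao, ← mul_smul u a, S.A_comm S.uA haA, mul_smul a u, mul_smul, mul_smul, inv_smul_smul,
        S.tuo]
    · intro e
      have h0 := mul_eq_one_iff_inv_eq.mp e
      rw [S.u_inv] at h0
      exact S.u_free o (by rw [h0]; exact S.to')
    · rw [show u * t * (u * t) = u * (t * u) * t by group, ← hut,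
        show u * (u * t) * t = u * u * (t * t) by group, S.u2, S.t2, one_mul]
    · rw [← mul_smul, mul_assoc, S.tu, mul_smul, hz₀]
  have hau : a * u = u * a := S.A_comm haA S.uA
  have ha2 : (a * a) * t = t * (a * a) := by
    refine mul_inv_eq_iff_eq_mul.mp ?_
    calc a * a * t * (a * a)⁻¹ = a * (a * t * a⁻¹) * a⁻¹ := by group
      _ = a * (u * t) * a⁻¹ := by rw [hat]
      _ = (a * u) * t * a⁻¹ := by group
      _ = u * (a * t * a⁻¹) := by rw [hau]; group
      _ = t := by rw [hat, ← mul_assoc, S.u2, one_mul]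
  have hant : a * t ≠ t * a := by
    intro e
    rw [mul_inv_eq_iff_eq_mul.mpr e] at hat
    exact S.u1 (mul_eq_right.mp hat.symm)
  -- Sylow
  haveI : Fact (Nat.Prime 2) := ⟨Nat.prime_two⟩
  obtain ⟨i, m, hm, hord⟩ := Nat.exists_eq_two_pow_mul_odd (orderOf_pos a).ne'
  have ham : a ^ m * t ≠ t * a ^ m := by
    intro e
    obtain ⟨r, hr⟩ := hm
    refine hant ?_
    have h1 : Commute (a ^ (2 * r)) t := by
      rw [pow_mul, pow_two]
      exact (show Commute (a * a) t from ha2).pow_left r
    have h2 : a = (a ^ (2 * r))⁻¹ * a ^ m := by rw [hr, pow_succ, inv_mul_cancel_left]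
    rw [h2]
    exact (h1.inv_left.mul_left e).eq
  have hpam : IsPGroup 2 (Subgroup.zpowers (⟨a ^ m, A.pow_mem haA m⟩ : A)) := by
    refine IsPGroup.of_card_dvd_pow (n := i) ?_
    rw [Nat.card_zpowers]
    refine orderOf_dvd_of_pow_eq_one (Subtype.ext ?_)
    show (a ^ m) ^ 2 ^ i = 1
    rw [← pow_mul, mul_comm, ← hord, pow_orderOf_eq_one]
  obtain ⟨A2, hA2⟩ := hpam.exists_le_sylow
  set A2' : Subgroup G := (A2 : Subgroup A).map A.subtype with hA2'
  have hA2A : A2' ≤ A := Subgroup.map_subtype_le _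
  have hamA2 : a ^ m ∈ A2' := ⟨_, hA2 (Subgroup.mem_zpowers _), rfl⟩
  obtain ⟨P, hP⟩ := (A2.isPGroup'.map A.subtype : IsPGroup 2 A2').exists_le_sylow
  obtain ⟨e₂, he₂⟩ := IsPGroup.iff_card.mp (A2.isPGroup'.map A.subtype : IsPGroup 2 A2')
  have he₂n : ¬ 2 ^ (e₂ + 1) ∣ Fintype.card α := by
    intro h
    rw [← S.card_A] at h
    have h1 : Nat.card A2' = Nat.card (A2 : Subgroup A) :=
      Subgroup.card_map_of_injective A.subtype_injective
    have h2 := A2.card_eq_multiplicity
    rw [← h1, he₂] at h2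
    have h3 := (Nat.Prime.pow_dvd_iff_le_factorization Nat.prime_two Nat.card_pos.ne').mp h
    rw [← Nat.pow_right_injective (le_refl 2) h2] at h3
    omega
  -- an orbit of minimal size
  obtain ⟨z, hz⟩ : ∃ z : α, Nat.card (orbit (P : Subgroup G) z) ≤ 2 ^ e₂ := by
    by_contra hc
    push Not at hc
    apply he₂n
    have e := Nat.card_congr (MulAction.selfEquivSigmaOrbits' (P : Subgroup G) α)
    rw [Nat.card_sigma, Nat.card_eq_fintype_card] at e
    rw [e]
    refine Finset.dvd_sum fun ω _ => ?_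
    rw [orbitRel.Quotient.orbit_eq_orbit_out _ Quotient.out_eq']
    obtain ⟨j, hj⟩ := P.isPGroup'.card_orbit (ω.out)
    have := hc ω.out
    rw [hj] at this ⊢
    refine Nat.pow_dvd_pow 2 ?_
    by_contra hlt
    have := Nat.pow_le_pow_right (n := 2) (by norm_num) (show j ≤ e₂ by omega)
    omega
  have horbA : ∀ g ∈ (P : Subgroup G), ∃ b ∈ A2', g • z = b • z := by
    intro g hg
    let f : A2' → orbit (P : Subgroup G) z := fun b =>
      ⟨(b : G) • z, ⟨(⟨(b : G), hP b.2⟩ : (P : Subgroup G)), rfl⟩⟩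
    have hinj : Function.Injective f := by
      intro b c e
      have e' : (b : G) • z = (c : G) • z := congrArg Subtype.val e
      refine Subtype.ext (inv_mul_eq_one.mp (S.reg.free _ (hA2A (A2'.mul_mem (A2'.inv_mem b.2) c.2))
        z ?_))
      rw [mul_smul, ← e', inv_smul_smul]
    have hbij : Function.Bijective f := hinj.bijective_of_nat_card_le (by rw [he₂]; exact hz)
    obtain ⟨b, hb⟩ := hbij.2 ⟨g • z, ⟨(⟨g, hg⟩ : (P : Subgroup G)), rfl⟩⟩
    exact ⟨b, b.2, (congrArg Subtype.val hb).symm⟩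
  obtain ⟨s, hsA, hsz⟩ := S.reg.trans z o
  set P1 : Subgroup G := (P : Subgroup G).map (MulAut.conj s).toMonoidHom with hP1
  have hA2P1 : A2' ≤ P1 := by
    intro b hb
    refine ⟨b, hP hb, ?_⟩
    show s * b * s⁻¹ = b
    rw [S.A_comm hsA (hA2A hb)]; group
  have horb1 : ∀ g ∈ P1, ∃ b ∈ A2', g • o = b • o := by
    rintro _ ⟨g, hg, rfl⟩
    obtain ⟨b, hb, e⟩ := horbA g hg
    refine ⟨b, hb, ?_⟩
    show (s * g * s⁻¹) • o = b • o
    rw [mul_smul, mul_smul, inv_smul_eq_iff.mpr hsz.symm, e, ← mul_smul, S.A_comm hsA (hA2A hb),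
      mul_smul, hsz]
  have hP1p : IsPGroup 2 P1 := P.isPGroup'.map _
  -- the point stabiliser in the Sylow subgroup is faithful on that orbit
  have hfaith : ∀ g ∈ P1, (∀ b ∈ A2', g • b • o = b • o) → g = 1 := by
    intro g hg hfix
    by_contra hg1
    obtain ⟨j, hj⟩ := hP1p ⟨g, hg⟩
    have hj' : g ^ 2 ^ j = 1 := congrArg Subtype.val hj
    obtain ⟨l, hl1, hl2⟩ : ∃ l, g ^ 2 ^ l ≠ 1 ∧ (g ^ 2 ^ l) * (g ^ 2 ^ l) = 1 := by
      have hex : ∃ j, g ^ 2 ^ j = 1 := ⟨j, hj'⟩
      have h0 : Nat.find hex ≠ 0 := by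
        intro e
        have h9 := Nat.find_spec hex
        rw [e, pow_zero, pow_one] at h9
        exact hg1 h9
      refine ⟨Nat.find hex - 1, Nat.find_min hex (by omega), ?_⟩
      have h9 := Nat.find_spec hex
      rwa [show Nat.find hex = (Nat.find hex - 1) + 1 by omega, pow_succ, pow_mul, pow_two] at h9
    have hfix' : ∀ b ∈ A2', (g ^ 2 ^ l) • b • o = b • o := fun b hb =>
      (stabilizer G (b • o)).pow_mem (hfix b hb) _
    have hl0 : (g ^ 2 ^ l) • o = o := by simpa using hfix' 1 A2'.one_mem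
    have huA2 : u ∈ A2' := by
      obtain ⟨r, hr1, hr2⟩ : ∃ r ∈ A2', r ≠ 1 := ⟨a ^ m, hamA2, fun e => ham (by rw [e]; simp)⟩
      have hne : 2 ∣ Nat.card A2' := by
        rw [he₂]
        refine dvd_pow_self 2 ?_
        intro e
        rw [e, pow_zero] at he₂
        have := Subgroup.card_eq_one.mp he₂
        rw [Subgroup.eq_bot_iff_forall] at this
        exact hr2 (this r hr1)
      obtain ⟨c, hc⟩ := exists_prime_orderOf_dvd_card' (G := A2') 2 hne
      haveI := S.cyc
      have h := eq_of_involutions (x := (⟨(c : G), hA2A c.2⟩ : A)) (y := ⟨u, S.uA⟩)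
        (fun e => by
          rw [show c = 1 from Subtype.ext (congrArg Subtype.val e :), orderOf_one] at hc
          exact absurd hc (by norm_num))
        (Subtype.ext (by
          have := pow_orderOf_eq_one c
          rw [hc, pow_two] at this
          exact (congrArg Subtype.val this : (c : G) * (c : G) = 1)))
        (fun e => S.u1 (congrArg Subtype.val e)) (Subtype.ext S.u2)
      have h' : (c : G) = u := congrArg Subtype.val h
      rw [← h']
      exact c.2
    have ht : g ^ 2 ^ l = t := S.tau_unique S.ou hl1 hl2 hl0 (hfix' u huA2) S.t1 S.t2 S.to' S.tuo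
    refine ham (S.A_comm_of_fix (A.pow_mem haA m) ?_)
    rw [← ht]
    exact hfix' _ hamA2
  -- `u` centralises the Sylow subgroup
  have hP1ne : P1 ≠ ⊥ := by
    intro e
    refine ham ?_
    have h := hA2P1 hamA2
    rw [e, Subgroup.mem_bot] at h
    rw [h]; simp
  haveI : Nontrivial P1 := (Subgroup.nontrivial_iff_ne_bot P1).mpr hP1ne
  haveI := hP1p.center_nontrivial
  have hucent : ∀ g ∈ P1, g * u = u * g := by
    obtain ⟨c, hc⟩ := exists_prime_orderOf_dvd_card' (G := Subgroup.center P1) 2 (by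
      obtain ⟨n, hn⟩ := IsPGroup.iff_card.mp (hP1p.to_subgroup (Subgroup.center P1))
      rw [hn]
      refine dvd_pow_self 2 ?_
      intro e
      rw [e, pow_zero] at hn
      have := Finite.one_lt_card (α := Subgroup.center P1)
      omega)
    set c' : G := ((c : P1) : G) with hc'
    have hcc : ∀ g ∈ P1, g * c' = c' * g := fun g hg =>
      congrArg Subtype.val ((Subgroup.mem_center_iff.mp c.2) ⟨g, hg⟩)
    have hc2 : c' * c' = 1 := by
      have := pow_orderOf_eq_one c
      rw [hc, pow_two] at this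
      exact congrArg (fun x : Subgroup.center P1 => ((x : P1) : G)) this
    have hc1 : c' ≠ 1 := by
      intro e
      rw [show c = 1 from Subtype.ext (Subtype.ext e), orderOf_one] at hc
      exact absurd hc (by norm_num)
    obtain ⟨b, hb, hbo⟩ := horb1 c' (c : P1).2
    have h1 : b⁻¹ * c' = 1 := by
      refine hfaith _ (P1.mul_mem (P1.inv_mem (hA2P1 hb)) (c : P1).2) fun d hd => ?_
      rw [← mul_smul, mul_assoc, ← hcc d (hA2P1 hd), ← mul_assoc,
        S.A_comm (A.inv_mem (hA2A hb)) (hA2A hd), mul_assoc, mul_smul, mul_smul, hbo,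
        inv_smul_smul]
    rw [inv_mul_eq_one] at h1
    haveI := S.cyc
    have h := eq_of_involutions (x := (⟨c', h1 ▸ hA2A hb⟩ : A)) (y := ⟨u, S.uA⟩)
      (fun e => hc1 (congrArg Subtype.val e)) (Subtype.ext hc2)
      (fun e => S.u1 (congrArg Subtype.val e)) (Subtype.ext S.u2)
    have h' : c' = u := congrArg Subtype.val h
    rw [← h']
    exact hcc
  -- its point stabiliser
  set Po : Subgroup G := P1 ⊓ stabilizer G o with hPo
  have hPopair : Po ≤ stabilizer G o ⊓ stabilizer G (u • o) := by
    intro g hg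
    refine ⟨hg.2, ?_⟩
    show g • u • o = u • o
    rw [← mul_smul, hucent g hg.1, mul_smul, show g • o = o from hg.2]
  obtain ⟨k, hk⟩ := IsPGroup.iff_card.mp (hP1p.to_le (inf_le_left : Po ≤ P1))
  have hkfull : ¬ 2 ^ (k + 1) ∣ Nat.card (stabilizer G o) := by
    intro hd
    have hstab : Nat.card (stabilizer P1 o) = Nat.card Po := by
      refine Nat.card_congr
        { toFun := fun g => ⟨((g : P1) : G), (g : P1).2, g.2⟩
          invFun := fun g => ⟨⟨(g : G), g.2.1⟩, g.2.2⟩
          left_inv := fun g => rfl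
          right_inv := fun g => rfl }
    have h1 : Nat.card P1 ≤ 2 ^ (e₂ + k) := by
      rw [← Subgroup.index_mul_card (stabilizer P1 o), hstab, hk, pow_add]
      refine Nat.mul_le_mul_right _ ?_
      rw [index_stabilizer, ← Nat.card_coe_set_eq, ← he₂]
      refine Nat.card_le_card_of_surjective
        (fun b : A2' => (⟨(b : G) • o, ⟨(⟨b, hA2P1 b.2⟩ : P1), rfl⟩⟩ : orbit P1 o)) ?_
      rintro ⟨_, g, rfl⟩
      obtain ⟨b, hb, e⟩ := horb1 g g.2
      exact ⟨⟨b, hb⟩, Subtype.ext e.symm⟩
    have hPc : Nat.card P1 = 2 ^ (Nat.card G).factorization 2 := by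
      rw [hP1, Subgroup.card_map_of_injective (MulAut.conj s).injective]
      exact P.card_eq_multiplicity
    have h3 : 2 ^ e₂ * 2 ^ (k + 1) ∣ Nat.card G := by
      rw [← S.card_mul o]
      refine Nat.mul_dvd_mul ?_ hd
      rw [← S.card_A, ← he₂]
      exact Subgroup.card_dvd_of_le hA2A
    rw [← pow_add] at h3
    have h4 := (Nat.Prime.pow_dvd_iff_le_factorization Nat.prime_two Nat.card_pos.ne').mp h3
    have h5 := Nat.pow_le_pow_right (n := 2) (by norm_num) h4
    rw [← hPc] at h5
    have h6 := Nat.pow_lt_pow_right (a := 2) (by norm_num) (show e₂ + k < e₂ + (k + 1) by omega)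
    omega
  -- the kernel has smaller two-part
  let Nsub : Subgroup G :=
    { carrier := {n | InN n}
      one_mem' := ⟨by simp, fun x _ => one_smul G x⟩
      mul_mem' := fun {a b} ha hb => ⟨S.centr_comm (C.mul_mem (S.mem_centr ha.1) (S.mem_centr hb.1)),
        fun x hx => by rw [mul_smul, hb.2 x hx, ha.2 x hx]⟩
      inv_mem' := fun {a} ha => ⟨S.centr_comm (C.inv_mem (S.mem_centr ha.1)),
        fun x hx => by rw [inv_smul_eq_iff, ha.2 x hx]⟩ }
  have htN : t ∈ Nsub := ⟨rfl, fun x hx => hx⟩
  have hN2 : 2 ∣ Nat.card Nsub := by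
    have h1 : orderOf (⟨t, htN⟩ : Nsub) = 2 := by
      rw [Subgroup.orderOf_mk]
      exact orderOf_eq_prime (by rw [pow_two, S.t2]) S.t1
    exact h1 ▸ orderOf_dvd_natCard _
  have hN2H : 2 * Nat.card Nsub ∣ Nat.card (stabilizer G o) := by
    refine dvd_trans ?_ (Subgroup.card_dvd_of_le
      (inf_le_left : stabilizer G o ⊓ stabilizer G (u • o) ≤ stabilizer G o))
    set Hp := stabilizer G o ⊓ stabilizer G (u • o) with hHp
    have hHC : ∀ h ∈ Hp, h * t = t * h := fun h hh => S.pair_comm S.ou hh.1 hh.2 S.to' S.tuo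
    let ψ : Hp →* S.lineHom.range :=
      S.lineHom.rangeRestrict.comp
        { toFun := fun h => ⟨h.1, S.mem_centr (hHC h.1 h.2)⟩
          map_one' := rfl
          map_mul' := fun _ _ => rfl }
    have hker : Nat.card ψ.ker = Nat.card Nsub := by
      have hm1 : ∀ h : ψ.ker, ((h : Hp) : G) ∈ Nsub := fun h => ⟨hHC _ (h : Hp).2, fun x hx =>
        congrArg (fun g : S.lineHom.range => (g • (⟨x, hx⟩ : L)).1) h.2⟩
      refine Nat.card_congr (Equiv.ofBijective (fun h : ψ.ker => (⟨_, hm1 h⟩ : Nsub)) ⟨?_, ?_⟩)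
      · intro a b e
        exact Subtype.ext (Subtype.ext (congrArg (fun n : Nsub => (n : G)) e))
      · rintro ⟨n, hn⟩
        exact ⟨⟨⟨n, hn.2 o S.to', hn.2 _ S.tuo⟩,
          Subtype.ext (Equiv.ext fun x => Subtype.ext (hn.2 x.1 x.2))⟩, rfl⟩
    have hrange : 2 ∣ Nat.card ψ.range := by
      obtain ⟨c, hcO, hcO'⟩ : ∃ c : L, c ≠ O ∧ c ≠ O' := by
        by_contra hc
        push Not at hc
        have h := Finset.card_le_card (s := (Finset.univ : Finset L)) (t := {O, O'}) (fun x _ => by
          rw [Finset.mem_insert, Finset.mem_singleton]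
          by_cases hx : x = O
          · exact Or.inl hx
          · exact Or.inr (hc x hx))
        rw [Finset.card_univ, Finset.card_pair hOO'] at h
        omega
      have hfixO : ∀ g : ψ.range, (g : S.lineHom.range) • O = O ∧ (g : S.lineHom.range) • O' = O' := by
        rintro ⟨_, h, rfl⟩
        exact ⟨Subtype.ext h.2.1, Subtype.ext h.2.2⟩
      have hcardr : Nat.card ψ.range = Nat.card {x : L // x ≠ O ∧ x ≠ O'} := by
        refine Nat.card_congr (Equiv.ofBijective
          (fun g : ψ.range => ⟨(g : S.lineHom.range) • c,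
            fun e => hcO ((MulAction.injective (g : S.lineHom.range)) (e.trans (hfixO g).1.symm)),
            fun e => hcO' ((MulAction.injective (g : S.lineHom.range)) (e.trans (hfixO g).2.symm))⟩)
          ⟨?_, ?_⟩)
        · intro a b e
          have e' : (a : S.lineHom.range) • c = (b : S.lineHom.range) • c := congrArg Subtype.val e
          refine Subtype.ext (inv_mul_eq_one.mp (hgood.free _ O O' c hOO' hcO.symm hcO'.symm ?_ ?_ ?_))
          · rw [mul_smul, (hfixO b).1, inv_smul_eq_iff, (hfixO a).1]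
          · rw [mul_smul, (hfixO b).2, inv_smul_eq_iff, (hfixO a).2]
          · rw [mul_smul, ← e', inv_smul_smul]
        · rintro ⟨c', hc'O, hc'O'⟩
          obtain ⟨g, g0, g1, g2⟩ :=
            hgood.exists_map hOO' hcO.symm hcO'.symm hOO' (Ne.symm hc'O) (Ne.symm hc'O')
          obtain ⟨l, hl1, hl⟩ := lift g
          have hl2 : (l : G) ∈ Hp := ⟨(hl O).symm.trans (congrArg Subtype.val g0),
            (hl O').symm.trans (congrArg Subtype.val g1)⟩
          exact ⟨⟨g, ⟨⟨l, hl2⟩, hl1⟩⟩, Subtype.ext g2⟩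
      rw [hcardr, Nat.card_eq_fintype_card]
      have h1 : Fintype.card {x : L // x ≠ O ∧ x ≠ O'} = Fintype.card L - 2 := by
        rw [Fintype.card_subtype, show ((Finset.univ : Finset L).filter (fun x => x ≠ O ∧ x ≠ O')) =
            Finset.univ \ {O, O'} by ext x; simp,
          Finset.card_sdiff_of_subset (Finset.subset_univ _), Finset.card_pair hOO', Finset.card_univ]
      rw [h1]
      have h2 : Even (Fintype.card L) := S.line_even
      rw [Nat.even_iff] at h2
      omega
    rw [← Subgroup.card_mul_index ψ.ker, Subgroup.index_ker, hker, mul_comm 2]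
    exact Nat.mul_dvd_mul_left _ hrange
  have hNk : ¬ 2 ^ k ∣ Nat.card Nsub := by
    intro hd
    refine hkfull (dvd_trans ?_ hN2H)
    rw [pow_succ']
    exact Nat.mul_dvd_mul_left 2 hd
  have hk2 : 2 ≤ k := by
    by_contra hlt
    refine hkfull (dvd_trans ?_ (dvd_trans (Nat.mul_dvd_mul_left 2 hN2) hN2H))
    exact (Nat.pow_dvd_pow 2 (show k + 1 ≤ 2 by omega))
  -- a generator
  haveI := S.pair_cyclic S.ou
  haveI hPoc : IsCyclic Po := isCyclic_of_injective (f := Subgroup.inclusion hPopair)
    (Subgroup.inclusion_injective _)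
  obtain ⟨⟨σ, hσ⟩, hσgen⟩ := hPoc.exists_generator
  have hσord : orderOf σ = 2 ^ k := by
    rw [← Subgroup.orderOf_mk σ hσ, orderOf_eq_card_of_forall_mem_zpowers hσgen, hk]
  have hσt : σ ^ 2 ^ (k - 1) = t := by
    refine S.tau_unique S.ou ?_ ?_ ((stabilizer G o).pow_mem (hPopair hσ).1 _)
      ((stabilizer G (u • o)).pow_mem (hPopair hσ).2 _) S.t1 S.t2 S.to' S.tuo
    · intro e
      have h1 := Nat.le_of_dvd (by positivity) (orderOf_dvd_of_pow_eq_one e)
      rw [hσord] at h1
      have h2 := Nat.pow_lt_pow_right (a := 2) (by norm_num) (show k - 1 < k by omega)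
      omega
    · rw [← pow_add, show 2 ^ (k - 1) + 2 ^ (k - 1) = 2 ^ k by
        rw [← two_mul, ← pow_succ']; congr 1; omega, ← hσord, pow_orderOf_eq_one]
  set σ' := a * σ * a⁻¹ with hσ'
  have hσ'u : σ' * u = u * σ' := by
    have h1 : Commute a u := hau
    have h2 : Commute σ u := hucent σ hσ.1
    exact ((h1.mul_left h2).mul_left h1.inv_left).eq
  have hσ'pow : σ' ^ 2 ^ (k - 1) = u * t := by rw [hσ', conj_pow, hσt, hat]
  have hσ't : σ' * t = t * σ' := by
    have h1 : Commute σ' u := hσ'u
    have h2 : Commute σ' (u * t) := by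
      rw [← hσ'pow]
      exact (Commute.refl σ').pow_right _
    have h3 := h1.mul_right h2
    rwa [← mul_assoc, S.u2, one_mul] at h3
  let eb : S.lineHom.range := S.lineHom.rangeRestrict ⟨σ', S.mem_centr hσ't⟩
  have hebu : eb * ub = ub * eb := by
    rw [← map_mul, ← map_mul]
    exact congrArg _ (Subtype.ext hσ'u)
  have hebpow : eb ^ 2 ^ (k - 1) = ub := by
    rw [← map_pow]
    refine Subtype.ext (Equiv.ext fun x => Subtype.ext ?_)
    show (σ' ^ 2 ^ (k - 1)) • x.1 = u • x.1
    rw [hσ'pow, mul_smul, x.2]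
  have heb2 : eb * eb ≠ 1 := by
    intro e
    refine hub1 ?_
    rw [← hebpow, show 2 ^ (k - 1) = 2 * 2 ^ (k - 2) by rw [← pow_succ']; congr 1; omega, pow_mul,
      pow_two, e, one_pow]
  obtain ⟨d, hdD, hde⟩ := hE eb hebu heb2
  set dd : G := ((d : C) : G) with hdd
  have hddt : dd * t = t * dd := S.centr_comm d.2
  set κ := dd⁻¹ * σ' with hκ
  have hκN : InN κ := by
    refine ⟨S.centr_comm (C.mul_mem (C.inv_mem d.2) (S.mem_centr hσ't)), fun x hx => ?_⟩
    have h1 : dd • x = σ' • x :=
      congrArg (fun g : S.lineHom.range => (g • (⟨x, hx⟩ : L)).1) hde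
    rw [hκ, mul_smul, ← h1, inv_smul_smul]
  have hfinal : t = κ ^ 2 ^ (k - 1) := by
    have hc' : Commute dd κ := hcent dd hddt κ hκN
    have h1 : σ' = dd * κ := by rw [hκ]; group
    rw [h1, hc'.mul_pow] at hσ'pow
    set r := u⁻¹ * dd ^ 2 ^ (k - 1) with hr
    have hrA : r ∈ A := A.mul_mem (A.inv_mem S.uA) (A.pow_mem hdD _)
    have h2 : t = r * κ ^ 2 ^ (k - 1) := by
      rw [hr, mul_assoc, hσ'pow, inv_mul_cancel_left]
    have h3 : r = t * (κ ^ 2 ^ (k - 1))⁻¹ := by rw [h2]; group
    have h4 : r • o = o := by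
      rw [h3, mul_smul, inv_smul_eq_iff.mpr ((stabilizer G o).pow_mem (hκN.2 o S.to') _).symm,
        S.to']
    rw [S.reg.free r hrA o h4, one_mul] at h2
    exact h2
  obtain ⟨i', m', hm', hNc⟩ := Nat.exists_eq_two_pow_mul_odd (Nat.card_pos (α := Nsub)).ne'
  have hi' : i' < k := by
    by_contra hge
    refine hNk (dvd_trans (Nat.pow_dvd_pow 2 (show k ≤ i' by omega)) ?_)
    rw [hNc]
    exact dvd_mul_right _ _
  have h1 : κ ^ Nat.card Nsub = 1 :=
    congrArg Subtype.val (pow_card_eq_one' (x := (⟨κ, hκN⟩ : Nsub)))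
  have h2 : t ^ m' = 1 := by
    rw [hfinal, ← pow_mul]
    obtain ⟨r, hr⟩ := Nat.pow_dvd_pow 2 (show i' ≤ k - 1 by omega)
    rw [hr, show 2 ^ i' * r * m' = (2 ^ i' * m') * r by ring, ← hNc, pow_mul, h1, one_pow]
  obtain ⟨r, hr⟩ := hm'
  rw [hr, pow_succ, pow_mul, pow_two, S.t2, one_pow, one_mul] at h2
  exact S.t1 h2

end Base

/-- The classification. -/
theorem exists_good : ∀ (n : ℕ) (β : Type v) [Fintype β] [DecidableEq β]
    (G : Subgroup (Equiv.Perm β)) (A : Subgroup G), Fintype.card β = n → Setup G A →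
      ∃ q, Good G q := by
  intro n
  induction n using Nat.strong_induction_on with
  | _ n IH =>
    intro β _ _ G A hn S
    obtain ⟨o⟩ := S.nonempty
    obtain ⟨u, t, B⟩ := exists_base S o
    by_cases h2f : Base.TwoFixed o u t
    · exact B.two_good h2f
    · exfalso
      have h4 : 2 < Fintype.card {x : β // t • x = x} := by
        unfold Base.TwoFixed at h2f
        push Not at h2f
        obtain ⟨x, hx, hxo, hxu⟩ := h2f
        rw [Fintype.two_lt_card_iff]
        exact ⟨⟨o, B.to'⟩, ⟨u • o, B.tuo⟩, ⟨x, hx⟩, fun e => B.ou (congrArg Subtype.val e),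
          fun e => hxo (congrArg Subtype.val e).symm, fun e => hxu (congrArg Subtype.val e).symm⟩
      obtain ⟨q, hq⟩ := B.line_good (fun β' _ _ G' A' hlt S' =>
        IH (Fintype.card β') (hn ▸ hlt) β' G' A' rfl S') h4
      exact B.many_absurd hq

end CfsgLib.Factorization.CyclicZ
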