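import Mathlib
import Cfsg.Agent.Lib.Factorization.CyclicZGroup.Many

/-!
# Products of a cyclic group and a Z-group

If such a group has no nontrivial solvable normal subgroup and is not solvable, then the Z-group is
a maximal subgroup and the group is sharply triply transitive on its cosets.
-/

set_option autoImplicit false

namespace CfsgLib.Factorization.CyclicZ

open MulAction

universe u v

/-- There is a largest solvable normal subgroup and its quotient has none. -/
theorem exists_radical (X : Type u) [Group X] [Finite X] :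
    ∃ R : Subgroup X, ∃ _ : R.Normal, Group.IsSolvable R ∧
      (∀ N : Subgroup X, N.Normal → Group.IsSolvable N → N ≤ R) := by
  classical
  obtain ⟨R, ⟨hRn, hRs⟩, hmax⟩ :=
    Set.Finite.exists_maximalFor (fun N : Subgroup X => Nat.card N)
      {N | N.Normal ∧ Group.IsSolvable N} (Set.toFinite _) ⟨⊥, inferInstance, inferInstance⟩
  haveI := hRn
  haveI := hRs
  refine ⟨R, hRn, hRs, fun N hN hNs => ?_⟩
  haveI := hN
  haveI := hNs
  set J := N.map (QuotientGroup.mk' R) with hJ
  haveI : Group.IsSolvable J :=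
    Group.isSolvable_of_surjective (f := (QuotientGroup.mk' R).subgroupMap N)
      (MonoidHom.subgroupMap_surjective _ _)
  haveI : J.Normal := Subgroup.Normal.map hN _ (QuotientGroup.mk'_surjective R)
  set M := J.comap (QuotientGroup.mk' R) with hM
  have hRM : R ≤ M := by
    intro r hr
    rw [hM, Subgroup.mem_comap, show (QuotientGroup.mk' R) r = 1 from (QuotientGroup.eq_one_iff r).mpr hr]
    exact J.one_mem
  have hNM : N ≤ M := Subgroup.le_comap_map _ _
  haveI : Group.IsSolvable M :=
    Group.isSolvable_of_ker_le_range (Subgroup.inclusion hRM)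
      ((QuotientGroup.mk' R).subgroupComap J) (by
        intro x hx
        refine ⟨⟨x.1, (QuotientGroup.eq_one_iff _).mp (congrArg Subtype.val hx)⟩, rfl⟩)
  have := hmax (j := M) ⟨inferInstance, inferInstance⟩ (Subgroup.card_le_of_le hRM)
  rw [Subgroup.eq_of_le_of_card_ge hRM this]
  exact hNM

theorem quotient_radical {X : Type u} [Group X] [Finite X] (R : Subgroup X) [R.Normal]
    (hRs : Group.IsSolvable R) (hmax : ∀ N : Subgroup X, N.Normal → Group.IsSolvable N → N ≤ R)
    (J : Subgroup (X ⧸ R)) (hJn : J.Normal) (hJs : Group.IsSolvable J) : J = ⊥ := by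
  haveI := hRs
  haveI := hJs
  set M := J.comap (QuotientGroup.mk' R) with hM
  have hRM : R ≤ M := by
    intro r hr
    rw [hM, Subgroup.mem_comap, show (QuotientGroup.mk' R) r = 1 from (QuotientGroup.eq_one_iff r).mpr hr]
    exact J.one_mem
  haveI : Group.IsSolvable M :=
    Group.isSolvable_of_ker_le_range (Subgroup.inclusion hRM)
      ((QuotientGroup.mk' R).subgroupComap J) (by
        intro x hx
        refine ⟨⟨x.1, (QuotientGroup.eq_one_iff _).mp (congrArg Subtype.val hx)⟩, rfl⟩)
  rw [Subgroup.eq_bot_iff_forall]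
  intro x hx
  obtain ⟨g, rfl⟩ := QuotientGroup.mk'_surjective R x
  exact (QuotientGroup.eq_one_iff g).mpr (hmax M inferInstance inferInstance hx)

/-- A solvable normal subgroup of a normal subgroup lies in a solvable normal subgroup. -/
theorem eq_bot_of_normal_normal {G : Type u} [Group G] [Finite G]
    (hrad : ∀ N : Subgroup G, N.Normal → Group.IsSolvable N → N = ⊥) (K : Subgroup G) [K.Normal]
    (Z : Subgroup K) (hZn : Z.Normal) (hZs : Group.IsSolvable Z) : Z = ⊥ := by
  obtain ⟨R, hRn, hRs, hmax⟩ := exists_radical K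
  haveI := hRs
  haveI : Group.IsSolvable (R.map K.subtype) :=
    Group.isSolvable_of_surjective (f := K.subtype.subgroupMap R)
      (MonoidHom.subgroupMap_surjective _ _)
  have hn : (R.map K.subtype).Normal := by
    refine ⟨?_⟩
    rintro _ ⟨r, hr, rfl⟩ g
    let σ : K ≃* K := MulAut.conjNormal g
    haveI : Group.IsSolvable (R.map σ.toMonoidHom) :=
      Group.isSolvable_of_surjective (f := σ.toMonoidHom.subgroupMap R)
        (MonoidHom.subgroupMap_surjective _ _)
    have hle := hmax (R.map σ.toMonoidHom) (Subgroup.Normal.map hRn _ σ.surjective) inferInstance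
    exact ⟨σ r, hle ⟨r, hr, rfl⟩, MulAut.conjNormal_apply g r⟩
  have h0 := hrad _ hn inferInstance
  rw [Subgroup.map_eq_bot_iff, Subgroup.ker_subtype, le_bot_iff] at h0
  rw [← le_bot_iff, ← h0]
  exact hmax Z hZn hZs

/-- Orbits of equal size on a set of prime size: the size divides the group order. -/
theorem prime_dvd_of_orbits {S : Type u} [Group S] [Finite S] {P : Type v} [Finite P] [MulAction S P]
    {p : ℕ} (hp : p.Prime) (hP : Nat.card P = p)
    (heq : ∀ x y : P, Nat.card (orbit S x) = Nat.card (orbit S y))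
    (hmove : ∃ (s : S) (x : P), s • x ≠ x) : p ∣ Nat.card S := by
  classical
  obtain ⟨s, x, hsx⟩ := hmove
  have e := Nat.card_congr (MulAction.selfEquivSigmaOrbits' S P)
  letI := Fintype.ofFinite (orbitRel.Quotient S P)
  rw [Nat.card_sigma] at e
  have hq : ∀ ω : orbitRel.Quotient S P, Nat.card ω.orbit = Nat.card (orbit S x) := by
    intro ω
    rw [orbitRel.Quotient.orbit_eq_orbit_out _ Quotient.out_eq']
    exact heq _ _
  rw [Finset.sum_congr rfl (fun ω _ => hq ω), Finset.sum_const, smul_eq_mul, hP] at e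
  have hdvd : Nat.card (orbit S x) ∣ p := e ▸ dvd_mul_left _ _
  have hne : Nat.card (orbit S x) ≠ 1 := by
    intro h1
    rw [Nat.card_coe_set_eq, Set.ncard_eq_one] at h1
    obtain ⟨y, hy⟩ := h1
    have h2 : s • x ∈ orbit S x := mem_orbit x s
    have h3 : x ∈ orbit S x := mem_orbit_self x
    rw [hy, Set.mem_singleton_iff] at h2 h3
    exact hsx (h2.trans h3.symm)
  have h5 := (Nat.dvd_prime hp).mp hdvd |>.resolve_left hne
  rw [← h5, Nat.card_coe_set_eq, ← index_stabilizer]
  exact Subgroup.index_dvd_card _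

theorem good_facts {α : Type v} [Fintype α] [DecidableEq α] {G : Subgroup (Equiv.Perm α)} {p : ℕ}
    (hG : Good G p) (x₀ : α) :
    Nat.card (stabilizer G x₀) ≤ p * (p - 1) ∧
    ∀ g : G, g ≠ 1 → g ^ p = 1 → ∃ y : α, ∀ z : α, g • z = z → z = y := by
  classical
  have h4 := hG.four_le
  have hp := hG.hp
  refine ⟨?_, fun g hg hgp => ?_⟩
  · have hone : 1 < (Finset.univ.erase x₀).card := by
      rw [Finset.card_erase_of_mem (Finset.mem_univ _), Finset.card_univ]
      omega
    obtain ⟨y, hy, z, hz, hyz⟩ := Finset.one_lt_card.mp hone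
    simp only [Finset.mem_erase, Finset.mem_univ, and_true] at hy hz
    let f : stabilizer G x₀ → {w : α × α // w.1 ≠ x₀ ∧ w.2 ≠ x₀ ∧ w.1 ≠ w.2} := fun g =>
      ⟨((g : G) • y, (g : G) • z), fun e => hy ((MulAction.injective (g : G)) (e.trans g.2.symm)),
        fun e => hz ((MulAction.injective (g : G)) (e.trans g.2.symm)),
        (MulAction.injective (g : G)).ne hyz⟩
    have hf : Function.Injective f := by
      intro a b e
      have e1 : ((a : G) • y, (a : G) • z) = ((b : G) • y, (b : G) • z) := congrArg Subtype.val e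
      refine Subtype.ext (inv_mul_eq_one.mp (hG.free _ x₀ y z hy.symm hz.symm hyz ?_ ?_ ?_))
      · rw [mul_smul, show (b : G) • x₀ = x₀ from b.2, inv_smul_eq_iff]; exact a.2.symm
      · rw [mul_smul, ← (Prod.mk.injEq _ _ _ _).mp e1 |>.1, inv_smul_smul]
      · rw [mul_smul, ← (Prod.mk.injEq _ _ _ _).mp e1 |>.2, inv_smul_smul]
    refine (Nat.card_le_card_of_injective f hf).trans ?_
    let g' : {w : α × α // w.1 ≠ x₀ ∧ w.2 ≠ x₀ ∧ w.1 ≠ w.2} →
        ((Finset.univ : Finset α).erase x₀).offDiag := fun w =>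
      ⟨w.1, by simp [w.2.1, w.2.2.1, w.2.2.2]⟩
    refine (Nat.card_le_card_of_injective g' fun a b e => ?_).trans ?_
    · exact Subtype.ext (congrArg Subtype.val e :)
    · rw [Nat.card_eq_fintype_card, Fintype.card_coe, Finset.offDiag_card,
        Finset.card_erase_of_mem (Finset.mem_univ _), Finset.card_univ, hG.hcard,
        show p + 1 - 1 = p by omega, Nat.mul_sub, mul_one]
  · haveI := Fact.mk hp
    have hpg : IsPGroup p (Subgroup.zpowers g) :=
      IsPGroup.of_card_dvd_pow (n := 1) (by
        rw [Nat.card_zpowers, pow_one]; exact orderOf_dvd_of_pow_eq_one hgp)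
    have hmod := hpg.card_modEq_card_fixedPoints α
    have hfix : ∀ z, z ∈ fixedPoints (Subgroup.zpowers g) α ↔ g • z = z := fun z =>
      ⟨fun h => h ⟨g, Subgroup.mem_zpowers g⟩, fun h => by
        rintro ⟨_, m, rfl⟩
        exact (stabilizer G z).zpow_mem h m⟩
    rw [Nat.card_eq_fintype_card, hG.hcard, Nat.card_coe_set_eq] at hmod
    have hle : (fixedPoints (Subgroup.zpowers g) α).ncard ≤ 2 := by
      by_contra hgt
      obtain ⟨a, ha, b, hb, hab⟩ := Set.one_lt_ncard (Set.toFinite _) |>.mp (by omega :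
        1 < (fixedPoints (Subgroup.zpowers g) α).ncard)
      obtain ⟨c, hc, hca, hcb⟩ : ∃ c ∈ fixedPoints (Subgroup.zpowers g) α, c ≠ a ∧ c ≠ b := by
        by_contra hno
        push Not at hno
        have : (fixedPoints (Subgroup.zpowers g) α).ncard ≤ ({a, b} : Set α).ncard :=
          Set.ncard_le_ncard (fun c hc => by
            by_cases h : c = a
            · exact Or.inl h
            · exact Or.inr (hno c hc h)) (Set.toFinite _)
        rw [Set.ncard_pair hab] at this
        omega
      exact hg (hG.free g a b c hab (Ne.symm hca) (Ne.symm hcb) ((hfix a).mp ha) ((hfix b).mp hb)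
        ((hfix c).mp hc))
    have h1 : (fixedPoints (Subgroup.zpowers g) α).ncard ≤ 1 := by
      have hp2 := hG.hp2
      have := hp.two_le
      unfold Nat.ModEq at hmod
      rw [Nat.add_mod_left, Nat.mod_eq_of_lt (by omega : 1 < p),
        Nat.mod_eq_of_lt (by omega : (fixedPoints (Subgroup.zpowers g) α).ncard < p)] at hmod
      omega
    haveI : Nonempty α := Fintype.card_pos_iff.mp (by omega)
    by_cases hex : ∃ z : α, g • z = z
    · obtain ⟨z, hz⟩ := hex
      exact ⟨z, fun w hw => (Set.ncard_le_one (Set.toFinite _)).mp h1 w ((hfix w).mpr hw) z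
        ((hfix z).mpr hz)⟩
    · push Not at hex
      exact ⟨Classical.arbitrary α, fun w hw => absurd hw (hex w)⟩

theorem main : ∀ (n : ℕ) (G : Type u) [Group G] [Finite G], Nat.card G = n →
    ¬ Group.IsSolvable G → (∀ N : Subgroup G, N.Normal → Group.IsSolvable N → N = ⊥) →
    ∀ A B : Subgroup G, IsCyclic A → IsZGroup B → (∀ g : G, ∃ a ∈ A, ∃ b ∈ B, g = a * b) →
    ∀ [Fintype (G ⧸ B)] [DecidableEq (G ⧸ B)],
      B.normalCore = ⊥ ∧ ∃ p, Good (MulAction.toPermHom G (G ⧸ B)).range p := by
  intro n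
  induction n using Nat.strong_induction_on with
  | _ n IH =>
  intro G _ _ hn hns hrad A B hA hB hAB _ _
  classical
  haveI := hA
  haveI := hB
  have hAc : ∀ a ∈ A, ∀ b ∈ A, a * b = b * a := fun a ha b hb => by
    letI : CommGroup A := IsCyclic.commGroup
    exact congrArg Subtype.val (mul_comm (⟨a, ha⟩ : A) ⟨b, hb⟩)
  have hcore : B.normalCore = ⊥ := by
    haveI : Group.IsSolvable B.normalCore :=
      Group.isSolvable_of_isSolvable_injective (f := Subgroup.inclusion B.normalCore_le)
        (Subgroup.inclusion_injective _)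
    exact hrad _ inferInstance inferInstance
  refine ⟨hcore, ?_⟩
  have hBtop : B ≠ ⊤ := by
    intro e
    refine hns (Group.isSolvable_of_surjective (f := B.subtype) fun g => ?_)
    exact ⟨⟨g, e ▸ Subgroup.mem_top g⟩, rfl⟩
  have hAcore : ∀ M : Subgroup G, B ≤ M → ∀ x ∈ A, x ∈ M → x ∈ M.normalCore := by
    intro M hBM x hxA hxM g
    obtain ⟨a, ha, b, hb, e⟩ := hAB g⁻¹
    rw [show g = b⁻¹ * a⁻¹ by rw [← mul_inv_rev, ← e, inv_inv]]
    rw [show b⁻¹ * a⁻¹ * x * (b⁻¹ * a⁻¹)⁻¹ = b⁻¹ * (a⁻¹ * x * a) * b by group]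
    have hx' : a⁻¹ * x * a = x := by rw [mul_assoc, hAc x hxA a ha, inv_mul_cancel_left]
    rw [hx']
    exact M.mul_mem (M.mul_mem (M.inv_mem (hBM hb)) hxM) (hBM hb)
  obtain ⟨M, hBM, hMmax⟩ : ∃ M : Subgroup G, B ≤ M ∧ IsCoatom M :=
    (eq_top_or_exists_le_coatom B).resolve_left hBtop |>.imp fun M h => ⟨h.2, h.1⟩
  by_cases hMB : M = B
  · -- the Z-group is maximal
    subst hMB
    set φ := MulAction.toPermHom G (G ⧸ M) with hφ
    have hinj : Function.Injective φ := by
      rw [← MonoidHom.ker_eq_bot_iff, ← hcore, Subgroup.normalCore_eq_ker]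
    have hns' : ¬ Group.IsSolvable φ.range := by
      intro h
      haveI := h
      exact hns (Group.isSolvable_of_isSolvable_injective (f := φ.rangeRestrict)
        (fun a b e => hinj (congrArg Subtype.val e)))
    haveI hprim : IsPreprimitive G (G ⧸ M) := by
      haveI : Nontrivial (G ⧸ M) := by
        by_contra hnt
        rw [not_nontrivial_iff_subsingleton] at hnt
        exact hBtop (Subgroup.eq_top_iff' M |>.mpr fun g => by
          have := Subsingleton.elim ((1 : G) : G ⧸ M) (g : G ⧸ M)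
          rw [QuotientGroup.eq, inv_one, one_mul] at this
          exact this)
      rw [← isCoatom_stabilizer_iff_preprimitive G ((1 : G) : G ⧸ M)]
      convert hMmax using 1
      exact MulAction.stabilizer_quotient M
    let f : (G ⧸ M) →ₑ[φ.rangeRestrict] (G ⧸ M) := ⟨id, fun _ _ => rfl⟩
    have hprim' : IsPreprimitive φ.range (G ⧸ M) :=
      IsPreprimitive.of_surjective (f := f) Function.surjective_id
    haveI : IsPretransitive φ.range (G ⧸ M) := hprim'.toIsPretransitive
    set A' := A.map φ.rangeRestrict with hA'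
    haveI hA'c : IsCyclic A' := isCyclic_of_surjective (f := φ.rangeRestrict.subgroupMap A)
      (MonoidHom.subgroupMap_surjective _ _)
    have hreg : IsRegularSub A' (G ⧸ M) := by
      have htr : ∀ x : G ⧸ M, ∃ a ∈ A, a • ((1 : G) : G ⧸ M) = x := by
        intro x
        obtain ⟨g, rfl⟩ := QuotientGroup.mk_surjective x
        obtain ⟨a, ha, b, hb, rfl⟩ := hAB g
        refine ⟨a, ha, ?_⟩
        show ((a * 1 : G) : G ⧸ M) = _
        rw [QuotientGroup.eq]
        simpa using hb
      refine ⟨fun x y => ?_, ?_⟩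
      · obtain ⟨a, ha, rfl⟩ := htr x
        obtain ⟨b, hb, rfl⟩ := htr y
        refine ⟨φ.rangeRestrict (b * a⁻¹), Subgroup.mem_map_of_mem _ (A.mul_mem hb (A.inv_mem ha)), ?_⟩
        show (b * a⁻¹) • a • ((1 : G) : G ⧸ M) = _
        rw [mul_smul, inv_smul_smul]
      · rintro _ ⟨a, ha, rfl⟩ x hx
        have hall : ∀ z : G ⧸ M, a • z = z := by
          intro z
          obtain ⟨c, hc, rfl⟩ := htr z
          obtain ⟨d, hd, rfl⟩ := htr x
          have hx' : a • d • ((1 : G) : G ⧸ M) = d • ((1 : G) : G ⧸ M) := hx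
          have h1 : a • ((1 : G) : G ⧸ M) = ((1 : G) : G ⧸ M) := by
            rw [← mul_smul, hAc a ha d hd, mul_smul] at hx'
            exact MulAction.injective d hx'
          rw [← mul_smul, hAc a ha c hc, mul_smul, h1]
        exact Subtype.ext (Equiv.ext hall)
    have hz : ∀ x : G ⧸ M, IsZGroup (stabilizer φ.range x) := by
      intro x
      obtain ⟨g, rfl⟩ := QuotientGroup.mk_surjective x
      let ψ : M →* stabilizer φ.range (g : G ⧸ M) :=
        { toFun := fun b => ⟨φ.rangeRestrict (g * b * g⁻¹), by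
            show (g * (b : G) * g⁻¹) • (g : G ⧸ M) = (g : G ⧸ M)
            show ((g * (b : G) * g⁻¹ * g : G) : G ⧸ M) = _
            rw [QuotientGroup.eq]
            simp [mul_assoc]⟩
          map_one' := Subtype.ext (by simp)
          map_mul' := fun b c => Subtype.ext (by
            simp only [Subgroup.coe_mul]
            rw [← map_mul]
            congr 1
            group) }
      refine IsZGroup.of_surjective (f := ψ) ?_
      rintro ⟨⟨_, h, rfl⟩, hh⟩
      have hh' : ((h * g : G) : G ⧸ M) = (g : G ⧸ M) := hh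
      rw [QuotientGroup.eq] at hh'
      refine ⟨⟨g⁻¹ * h * g, ?_⟩, Subtype.ext (Subtype.ext ?_)⟩
      · have h1 : g⁻¹ * h * g = ((h * g)⁻¹ * g)⁻¹ := by group
        rw [h1]; exact M.inv_mem hh'
      · show φ (g * (g⁻¹ * h * g) * g⁻¹) = φ h
        congr 1
        group
    have h2 := two_pretransitive φ.range hprim' hns' A' hA'c hreg
    exact exists_good _ _ φ.range A' rfl ⟨h2, hA'c, hreg, hz, hns'⟩
  · exfalso
    set K := M.normalCore with hK
    set C := Subgroup.centralizer (K : Set G) with hC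
    have hprodM : ∀ g ∈ M, ∃ a ∈ A ⊓ M, ∃ b ∈ B, g = a * b := by
      intro g hg
      obtain ⟨a, ha, b, hb, rfl⟩ := hAB g
      refine ⟨a, ⟨ha, ?_⟩, b, hb, rfl⟩
      have := M.mul_mem hg (M.inv_mem (hBM hb))
      rwa [mul_inv_cancel_right] at this
    obtain ⟨x₁, hx₁, hx₁B⟩ := SetLike.exists_of_lt (lt_of_le_of_ne hBM (Ne.symm hMB))
    obtain ⟨a₁, ha₁, b₁, hb₁, e₁⟩ := hprodM x₁ hx₁
    have ha₁1 : a₁ ≠ 1 := by
      rintro rfl
      exact hx₁B (by rw [e₁, one_mul]; exact hb₁)
    have hKne : K ≠ ⊥ := fun e => ha₁1 ((Subgroup.eq_bot_iff_forall _).mp e a₁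
      (hAcore M hBM a₁ ha₁.1 ha₁.2))
    have hKns : ¬ Group.IsSolvable K := fun h => hKne (hrad K inferInstance h)
    -- the quotient of the maximal subgroup
    obtain ⟨R, hRn, hRs, hRmax⟩ := exists_radical M
    set A₀ := ((A ⊓ M).subgroupOf M).map (QuotientGroup.mk' R) with hA₀
    set B₀ := (B.subgroupOf M).map (QuotientGroup.mk' R) with hB₀
    have hlt : Nat.card (M ⧸ R) < n := by
      have h1 : Nat.card (M ⧸ R) ≤ Nat.card M :=
        Nat.card_le_card_of_surjective _ (QuotientGroup.mk'_surjective R)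
      have h2 : Nat.card M < Nat.card G := by
        by_contra hge
        exact hMmax.1 (Subgroup.eq_top_of_le_card _ (by omega))
      omega
    have hns₀ : ¬ Group.IsSolvable (M ⧸ R) := by
      intro h
      haveI := hRs
      haveI := h
      haveI : Group.IsSolvable M :=
        Group.isSolvable_of_ker_le_range R.subtype (QuotientGroup.mk' R) (by simp)
      exact hKns (Group.isSolvable_of_isSolvable_injective (f := Subgroup.inclusion M.normalCore_le)
        (Subgroup.inclusion_injective _))
    haveI hA₀c : IsCyclic A₀ := by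
      haveI : IsCyclic ((A ⊓ M).subgroupOf M) := isCyclic_of_injective
        (f := (⟨⟨fun d => (⟨((d : M) : G), d.2.1⟩ : A), rfl⟩, fun _ _ => rfl⟩ :
          ↥((A ⊓ M).subgroupOf M) →* ↥A))
        (fun a b e => Subtype.ext (Subtype.ext (congrArg (fun z : A => (z : G)) e)))
      exact isCyclic_of_surjective (f := (QuotientGroup.mk' R).subgroupMap _)
        (MonoidHom.subgroupMap_surjective _ _)
    haveI hB₀z : IsZGroup B₀ := by
      haveI : IsZGroup (B.subgroupOf M) := IsZGroup.of_injective
        (f := (⟨⟨fun d => (⟨((d : M) : G), d.2⟩ : B), rfl⟩, fun _ _ => rfl⟩ :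
          ↥(B.subgroupOf M) →* ↥B))
        (fun a b e => Subtype.ext (Subtype.ext (congrArg (fun z : B => (z : G)) e)))
      exact IsZGroup.of_surjective (f := (QuotientGroup.mk' R).subgroupMap _)
        (MonoidHom.subgroupMap_surjective _ _)
    have hAB₀ : ∀ g : M ⧸ R, ∃ a ∈ A₀, ∃ b ∈ B₀, g = a * b := by
      intro g
      obtain ⟨⟨g, hg⟩, rfl⟩ := QuotientGroup.mk'_surjective R g
      obtain ⟨a, ha, b, hb, rfl⟩ := hprodM g hg
      refine ⟨_, Subgroup.mem_map_of_mem _ (show (⟨a, ha.2⟩ : M) ∈ (A ⊓ M).subgroupOf M from ha),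
        _, Subgroup.mem_map_of_mem _ (show (⟨b, hBM hb⟩ : M) ∈ B.subgroupOf M from hb), ?_⟩
      rw [← map_mul]
      rfl
    letI : Fintype ((M ⧸ R) ⧸ B₀) := Fintype.ofFinite _
    obtain ⟨hcore₀, p, hgood⟩ := IH _ hlt (M ⧸ R) rfl hns₀ (quotient_radical R hRs hRmax) A₀ B₀
      hA₀c hB₀z hAB₀
    set φ := MulAction.toPermHom (M ⧸ R) ((M ⧸ R) ⧸ B₀) with hφ
    let ψ : K →* φ.range :=
      φ.rangeRestrict.comp ((QuotientGroup.mk' R).comp (Subgroup.inclusion M.normalCore_le))
    have hψ : Function.Injective ψ := by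
      have hkR : ψ.ker ≤ R.comap (Subgroup.inclusion M.normalCore_le) := by
        intro k hk
        have h1 : φ (QuotientGroup.mk' R (Subgroup.inclusion M.normalCore_le k)) = 1 :=
          congrArg Subtype.val hk
        rw [← MonoidHom.mem_ker, hφ, ← Subgroup.normalCore_eq_ker, hcore₀, Subgroup.mem_bot] at h1
        show Subgroup.inclusion M.normalCore_le k ∈ R
        exact (QuotientGroup.eq_one_iff _).mp (show ((Subgroup.inclusion M.normalCore_le k : M) : M ⧸ R) = 1 from h1)
      haveI := hRs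
      haveI : Group.IsSolvable (R.comap (Subgroup.inclusion M.normalCore_le)) :=
        Group.isSolvable_of_isSolvable_injective
          (f := (Subgroup.inclusion M.normalCore_le).subgroupComap R)
          (fun a b e => Subtype.ext (Subgroup.inclusion_injective _ (congrArg Subtype.val e :)))
      rw [← MonoidHom.ker_eq_bot_iff, ← le_bot_iff]
      exact hkR.trans (le_of_eq (eq_bot_of_normal_normal hrad M.normalCore _ inferInstance inferInstance))
    -- the regular part
    have hAK : ∀ a ∈ A, a ∈ M → a ∈ K := hAcore M hBM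
    set x₀ : (M ⧸ R) ⧸ B₀ := ((1 : M ⧸ R) : (M ⧸ R) ⧸ B₀) with hx₀
    have htrans : ∀ y : (M ⧸ R) ⧸ B₀, ∃ d : K, (d : G) ∈ A ∧ ψ d • x₀ = y := by
      intro y
      obtain ⟨g, rfl⟩ := QuotientGroup.mk_surjective y
      obtain ⟨a, ha, b, hb, rfl⟩ := hAB₀ g
      obtain ⟨⟨a', ha'M⟩, ha', rfl⟩ := ha
      refine ⟨⟨a', hAK a' ha'.1 ha'M⟩, ha'.1, ?_⟩
      show ((QuotientGroup.mk' R (⟨a', ha'M⟩ : M) * 1 : M ⧸ R) : (M ⧸ R) ⧸ B₀) = _
      rw [QuotientGroup.eq]
      simpa using hb
    have hdfree : ∀ d : K, (d : G) ∈ A → ψ d • x₀ = x₀ → d = 1 := by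
      intro d hd hx
      apply hψ
      rw [map_one]
      refine Subtype.ext (Equiv.ext fun y => ?_)
      obtain ⟨e, he, rfl⟩ := htrans y
      show ψ d • ψ e • x₀ = ψ e • x₀
      rw [← mul_smul, ← map_mul, show d * e = e * d from Subtype.ext (hAc d hd e he), map_mul,
        mul_smul, hx]
    let S₀ : Subgroup K := (stabilizer φ.range x₀).comap ψ
    have hS₀ne : S₀ ≠ ⊥ := by
      intro e
      refine hKns (Group.isSolvable_of_comm fun a b => ?_)
      have key : ∀ k : K, (k : G) ∈ A := by
        intro k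
        obtain ⟨d, hd, hdk⟩ := htrans (ψ k • x₀)
        have h1 : d⁻¹ * k ∈ S₀ := by
          show ψ (d⁻¹ * k) • x₀ = x₀
          rw [map_mul, map_inv, mul_smul, ← hdk, inv_smul_smul]
        rw [e, Subgroup.mem_bot, inv_mul_eq_one] at h1
        rw [← h1]; exact hd
      exact Subtype.ext (hAc a (key a) b (key b))
    have hp := hgood.hp
    haveI := Fact.mk hp
    have hdvd : p ∣ Nat.card S₀ := by
      let P := {y : (M ⧸ R) ⧸ B₀ // y ≠ x₀}
      letI : MulAction S₀ P :=
        { smul := fun s y => ⟨ψ s • y.1, fun e => y.2 ((MulAction.injective (ψ s))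
            (e.trans (show ψ s • x₀ = x₀ from s.2).symm))⟩
          one_smul := fun y => Subtype.ext (show ψ (1 : K) • y.1 = y.1 by rw [map_one, one_smul])
          mul_smul := fun a b y => Subtype.ext (show ψ ((a : K) * b) • y.1 = ψ a • ψ b • y.1 by
            rw [map_mul, mul_smul]) }
      have hPc : Nat.card P = p := by
        rw [Nat.card_eq_fintype_card]
        simp [P, Fintype.card_subtype_compl, hgood.hcard]
      refine prime_dvd_of_orbits hp hPc ?_ ?_
      · intro y z
        have key : ∀ y z : P, Nat.card (orbit S₀ y) ≤ Nat.card (orbit S₀ z) := by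
          intro y z
          haveI := hgood.h3
          obtain ⟨g, hg0, hg1⟩ := MulAction.is_two_pretransitive_iff.mp
            (isMultiplyPretransitive_of_le (n := 3) (by norm_num)
              (by rw [Nat.card_eq_fintype_card]; have := hgood.four_le; omega) :
              IsMultiplyPretransitive φ.range ((M ⧸ R) ⧸ B₀) 2) (Ne.symm y.2) (Ne.symm z.2)
          obtain ⟨q, hq⟩ : ∃ q : M, φ.rangeRestrict (QuotientGroup.mk' R q) = g := by
            obtain ⟨g', hg'⟩ := φ.rangeRestrict_surjective g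
            obtain ⟨q, rfl⟩ := QuotientGroup.mk'_surjective R g'
            exact ⟨q, hg'⟩
          have hconj : ∀ s : S₀, ∃ s' : S₀, ψ s' * g = g * ψ s := by
            intro s
            let s' : K := ⟨(q : G) * ((s : K) : G) * (q : G)⁻¹,
              (inferInstance : M.normalCore.Normal).conj_mem _ (s : K).2 _⟩
            have h1 : ψ s' = g * ψ s * g⁻¹ := by
              rw [← hq]
              show φ.rangeRestrict (QuotientGroup.mk' R (Subgroup.inclusion M.normalCore_le s')) = _
              rw [show Subgroup.inclusion M.normalCore_le s' =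
                q * Subgroup.inclusion M.normalCore_le (s : K) * q⁻¹ from Subtype.ext rfl]
              simp only [map_mul, map_inv]
              rfl
            refine ⟨⟨s', ?_⟩, by rw [h1, inv_mul_cancel_right]⟩
            show ψ s' • x₀ = x₀
            rw [h1, mul_smul, mul_smul, inv_smul_eq_iff.mpr hg0.symm,
              show ψ s • x₀ = x₀ from s.2, hg0]
          refine Nat.card_le_card_of_injective
            (fun w : orbit S₀ y => (⟨⟨g • w.1.1, fun e => w.1.2
              ((MulAction.injective g) (e.trans hg0.symm))⟩, ?_⟩ : orbit S₀ z)) ?_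
          · obtain ⟨s, hs⟩ := w.2
            obtain ⟨s', hs'⟩ := hconj s
            refine ⟨s', Subtype.ext ?_⟩
            show ψ s' • z.1 = g • w.1.1
            rw [← hs, ← hg1, ← mul_smul, hs', mul_smul]
            rfl
          · intro a b e
            exact Subtype.ext (Subtype.ext ((MulAction.injective g)
              (congrArg (fun w : orbit S₀ z => w.1.1) e)))
        exact le_antisymm (key y z) (key z y)
      · obtain ⟨s, hs, hs1⟩ := (Subgroup.bot_or_exists_ne_one S₀).resolve_left hS₀ne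
        have : ∃ y : (M ⧸ R) ⧸ B₀, ψ s • y ≠ y := by
          by_contra hc
          push Not at hc
          exact hs1 (hψ (by rw [map_one]; exact Subtype.ext (Equiv.ext hc)))
        obtain ⟨y, hy⟩ := this
        exact ⟨⟨s, hs⟩, ⟨y, fun e => hy (by rw [e]; exact hs)⟩, fun e => hy (congrArg Subtype.val e)⟩
    obtain ⟨⟨π, hπS⟩, hπo⟩ := exists_prime_orderOf_dvd_card' (G := S₀) p hdvd
    rw [Subgroup.orderOf_mk] at hπo
    have hπ1 : π ≠ 1 := fun e => hp.ne_one (by rw [← hπo, e, orderOf_one])
    have hπp : π ^ p = 1 := by rw [← hπo]; exact pow_orderOf_eq_one π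
    obtain ⟨hstabcard, honly⟩ := good_facts hgood x₀
    -- subgroups of order `p` in the point stabiliser coincide
    have huniq : ∀ c : K, c ^ p = 1 → ψ c • x₀ = x₀ → c ∈ Subgroup.zpowers π := by
      intro c hc hcx
      by_contra hnot
      have hcard : Nat.card (Subgroup.zpowers π) * Nat.card (Subgroup.zpowers c) ≤
          Nat.card (stabilizer φ.range x₀) := by
        rw [← Nat.card_prod]
        refine Nat.card_le_card_of_injective (fun w => ⟨ψ (w.1 * w.2), ?_⟩) ?_
        · show ψ ((w.1 : K) * w.2) • x₀ = x₀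
          obtain ⟨⟨_, i, rfl⟩, ⟨_, j, rfl⟩⟩ := w
          exact S₀.mul_mem (S₀.zpow_mem hπS i) (S₀.zpow_mem (show c ∈ S₀ from hcx) j)
        · rintro ⟨a, b⟩ ⟨a', b'⟩ e
          have e' : (a : K) * b = a' * b' := hψ (congrArg Subtype.val e)
          have h1 : (a' : K)⁻¹ * a = b' * (b : K)⁻¹ := by
            rw [eq_mul_inv_iff_mul_eq, mul_assoc, e', inv_mul_cancel_left]
          have h2 : (a' : K)⁻¹ * a ∈ Subgroup.zpowers π ⊓ Subgroup.zpowers c :=
            ⟨Subgroup.mul_mem _ (Subgroup.inv_mem _ a'.2) a.2,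
              h1 ▸ Subgroup.mul_mem _ b'.2 (Subgroup.inv_mem _ b.2)⟩
          have h3 : Subgroup.zpowers π ⊓ Subgroup.zpowers c = ⊥ := by
            rw [Subgroup.eq_bot_iff_forall]
            intro d hd
            by_contra hd1
            have hcd : orderOf c = p := orderOf_eq_prime hc fun e0 => hnot (e0 ▸ Subgroup.one_mem _)
            have hd' := mem_zpowers_of_prime_card (g := (⟨d, hd.2⟩ : Subgroup.zpowers c))
              (g' := ⟨c, Subgroup.mem_zpowers c⟩) (by rw [Nat.card_zpowers, hcd])
              (fun e0 => hd1 (congrArg Subtype.val e0))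
            obtain ⟨m, hm⟩ := Subgroup.mem_zpowers_iff.mp hd'
            refine hnot ?_
            rw [show c = d ^ m by simpa using (congrArg Subtype.val hm).symm]
            exact Subgroup.zpow_mem _ hd.1 m
          rw [h3, Subgroup.mem_bot] at h2
          have ha : (a' : K) = a := inv_mul_eq_one.mp h2
          have hb : (b : K) = b' := mul_left_cancel (e'.trans (by rw [ha]))
          exact Prod.ext (Subtype.ext ha.symm) (Subtype.ext hb)
      have hco : orderOf c = p :=
        orderOf_eq_prime hc fun e0 => hnot (e0 ▸ Subgroup.one_mem _)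
      rw [Nat.card_zpowers, Nat.card_zpowers, hπo, hco] at hcard
      have := hp.two_le
      have : p * (p - 1) < p * p := Nat.mul_lt_mul_of_pos_left (by omega) (by omega)
      omega
    -- elements of `A` normalise all subgroups of order `p`
    have hfactor : ∀ a ∈ A, ∃ d : K, (d : G) ∈ A ∧ (d : G)⁻¹ * a ∈ C := by
      intro a ha
      let conjK : G → K → K := fun g k =>
        ⟨g * k * g⁻¹, (inferInstance : M.normalCore.Normal).conj_mem _ k.2 _⟩
      have hcm : ∀ g h k, conjK (g * h) k = conjK g (conjK h k) := fun g h k =>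
        Subtype.ext (by show g * h * (k : G) * (g * h)⁻¹ = g * (h * k * h⁻¹) * g⁻¹; group)
      have hcK : ∀ e k : K, conjK (e : G) k = e * k * e⁻¹ := fun e k => Subtype.ext rfl
      -- the fixed point of the conjugate
      have hpow : (conjK a π) ^ p = 1 := by
        refine Subtype.ext ?_
        rw [Subgroup.coe_pow]
        show (a * (π : G) * a⁻¹) ^ p = 1
        rw [conj_pow, ← Subgroup.coe_pow, hπp]
        simp
      have hexfix : ∃ y : (M ⧸ R) ⧸ B₀, ψ (conjK a π) • y = y := by
        by_contra hc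
        push Not at hc
        have hz : ψ (conjK a π) ^ p = 1 := by rw [← map_pow, hpow, map_one]
        have hpg : IsPGroup p (Subgroup.zpowers (ψ (conjK a π))) :=
          IsPGroup.of_card_dvd_pow (n := 1) (by
            rw [Nat.card_zpowers, pow_one]; exact orderOf_dvd_of_pow_eq_one hz)
        have hmod := hpg.card_modEq_card_fixedPoints ((M ⧸ R) ⧸ B₀)
        have hempty : fixedPoints (Subgroup.zpowers (ψ (conjK a π))) ((M ⧸ R) ⧸ B₀) = ∅ := by
          ext y
          simp only [mem_fixedPoints, Set.mem_empty_iff_false, iff_false]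
          exact fun hy => hc y (hy ⟨_, Subgroup.mem_zpowers _⟩)
        rw [hempty, Nat.card_eq_fintype_card, hgood.hcard, Nat.card_coe_set_eq, Set.ncard_empty] at hmod
        unfold Nat.ModEq at hmod
        rw [Nat.add_mod_left, Nat.zero_mod, Nat.mod_eq_of_lt hp.one_lt] at hmod
        omega
      obtain ⟨y, hy⟩ := hexfix
      obtain ⟨d, hd, rfl⟩ := htrans y
      refine ⟨d, hd, ?_⟩
      set g := (d : G)⁻¹ * a with hg
      have hgA : g ∈ A := A.mul_mem (A.inv_mem hd) ha
      have hgπ : conjK g π ∈ Subgroup.zpowers π := by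
        have h1 : conjK g π = d⁻¹ * conjK a π * d := by
          rw [hg, hcm, show (d : G)⁻¹ = ((d⁻¹ : K) : G) from rfl, hcK, inv_inv]
        refine huniq _ ?_ ?_
        · have h1' : d⁻¹ * conjK a π * d = d⁻¹ * conjK a π * (d⁻¹)⁻¹ := by rw [inv_inv]
          rw [h1, h1', conj_pow, hpow]
          simp
        · rw [h1, map_mul, map_mul, map_inv, mul_smul, mul_smul, hy, inv_smul_smul]
      rw [hC, Subgroup.mem_centralizer_iff]
      intro k hk
      let k' : K := ⟨k, hk⟩
      suffices h : k'⁻¹ * conjK g k' = 1 by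
        rw [inv_mul_eq_one] at h
        have h' : g * k * g⁻¹ = k := (congrArg Subtype.val h).symm
        exact (mul_inv_eq_iff_eq_mul.mp h').symm
      apply hψ
      rw [map_one]
      refine Subtype.ext (Equiv.ext fun z => ?_)
      show ψ (k'⁻¹ * conjK g k') • z = z
      -- a generator of the order `p` subgroup at `z`
      obtain ⟨e, he, rfl⟩ := htrans z
      have hge : g * (e : G) = e * g := hAc g hgA _ he
      set x := k'⁻¹ * conjK g k' with hx
      -- `g` normalises every conjugate of the subgroup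
      have hnorm : ∀ f : K, ∀ i : ℤ, ∃ j : ℤ, conjK g (f * π ^ i * f⁻¹) = f * π ^ j * f⁻¹ := by
        intro f i
        obtain ⟨c, hc, hcf⟩ := htrans (ψ f • x₀)
        have hs : c⁻¹ * f ∈ S₀ := by
          show ψ (c⁻¹ * f) • x₀ = x₀
          rw [map_mul, map_inv, mul_smul, ← hcf, inv_smul_smul]
        set s := c⁻¹ * f with hs'
        have hf : f = c * s := by rw [hs']; group
        have hnormS : ∀ s ∈ S₀, ∀ i : ℤ, ∃ j : ℤ, s * π ^ i * s⁻¹ = π ^ j := by
          intro s hs i
          obtain ⟨j, hj⟩ := Subgroup.mem_zpowers_iff.mp (huniq (s * π * s⁻¹) (by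
            rw [conj_pow, hπp]; simp) (S₀.mul_mem (S₀.mul_mem hs hπS) (S₀.inv_mem hs)))
          exact ⟨j * i, by rw [← conj_zpow, ← hj, ← zpow_mul]⟩
        obtain ⟨j₁, hj₁⟩ := hnormS s hs i
        obtain ⟨j₂, hj₂⟩ := Subgroup.mem_zpowers_iff.mp hgπ
        obtain ⟨j₃, hj₃⟩ := hnormS s⁻¹ (S₀.inv_mem hs) (j₂ * j₁)
        refine ⟨j₃, ?_⟩
        have hgc : g * (c : G) = c * g := hAc g hgA _ hc
        have h1 : conjK g (f * π ^ i * f⁻¹) = c * conjK g (π ^ j₁) * c⁻¹ := by
          rw [hf, show c * s * π ^ i * (c * s)⁻¹ = c * (s * π ^ i * s⁻¹) * c⁻¹ by group, hj₁]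
          refine Subtype.ext ?_
          show g * ((c : G) * ((π ^ j₁ : K) : G) * (c : G)⁻¹) * g⁻¹ =
            (c : G) * (g * ((π ^ j₁ : K) : G) * g⁻¹) * (c : G)⁻¹
          calc g * ((c : G) * ((π ^ j₁ : K) : G) * (c : G)⁻¹) * g⁻¹
              = (g * c) * ((π ^ j₁ : K) : G) * (g * c)⁻¹ := by group
            _ = _ := by rw [hgc]; group
        have h2 : conjK g (π ^ j₁) = π ^ (j₂ * j₁) := by
          rw [zpow_mul, hj₂]
          refine Subtype.ext ?_
          show g * ((π ^ j₁ : K) : G) * g⁻¹ = ((conjK g π ^ j₁ : K) : G)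
          rw [Subgroup.coe_zpow, Subgroup.coe_zpow]
          exact (conj_zpow).symm
        rw [h1, h2, hf, ← hj₃]
        group
      -- hence `x` fixes the point
      obtain ⟨j₁, hj₁⟩ := hnorm e 1
      have hx' : ∃ j : ℤ, x * (e * π * e⁻¹) * x⁻¹ = e * π ^ j * e⁻¹ := by
        -- pull back along `g`
        obtain ⟨i, hi⟩ : ∃ i : ℤ, conjK g (e * π ^ i * e⁻¹) = e * π * e⁻¹ := by
          have hq : conjK g (e * π * e⁻¹) ≠ 1 := by
            intro h0
            have h0' : g * (((e * π * e⁻¹ : K)) : G) * g⁻¹ = 1 := congrArg Subtype.val h0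
            rw [conj_eq_one_iff] at h0'
            exact hπ1 (conj_eq_one_iff.mp (Subtype.ext h0'))
          rw [zpow_one] at hj₁
          rw [hj₁] at hq
          have hne : π ^ j₁ ≠ 1 := fun h0 => hq (by rw [h0]; group)
          have hmem := mem_zpowers_of_prime_card
            (g := (⟨π ^ j₁, j₁, rfl⟩ : Subgroup.zpowers π)) (g' := ⟨π, Subgroup.mem_zpowers π⟩)
            (by rw [Nat.card_zpowers, hπo]) (fun h0 => hne (congrArg Subtype.val h0))
          obtain ⟨i, hi⟩ := Subgroup.mem_zpowers_iff.mp hmem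
          refine ⟨i, ?_⟩
          have hi' : (π ^ j₁) ^ i = π := by simpa using congrArg Subtype.val hi
          calc conjK g (e * π ^ i * e⁻¹) = conjK g ((e * π * e⁻¹) ^ i) := by rw [conj_zpow]
            _ = (conjK g (e * π * e⁻¹)) ^ i := by
              refine Subtype.ext ?_
              show g * (((e * π * e⁻¹) ^ i : K) : G) * g⁻¹ = ((conjK g (e * π * e⁻¹) ^ i : K) : G)
              rw [Subgroup.coe_zpow, Subgroup.coe_zpow]
              exact (conj_zpow).symm
            _ = (e * π ^ j₁ * e⁻¹) ^ i := by rw [hj₁]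
            _ = e * π * e⁻¹ := by rw [conj_zpow, hi']
        obtain ⟨j, hj⟩ := hnorm (k' * e) i
        obtain ⟨j', hj'⟩ : ∃ j' : ℤ, k'⁻¹ * ((k' * e) * π ^ j * (k' * e)⁻¹) * k' = e * π ^ j' * e⁻¹ :=
          ⟨j, by group⟩
        refine ⟨j', ?_⟩
        rw [← hj', ← hj, ← hi, hx]
        refine Subtype.ext ?_
        show (k : G)⁻¹ * (g * k * g⁻¹) * (g * ((e * π ^ i * e⁻¹ : K) : G) * g⁻¹) *
            ((k : G)⁻¹ * (g * k * g⁻¹))⁻¹ =
          (k : G)⁻¹ * (g * (((k' * e) * π ^ i * (k' * e)⁻¹ : K) : G) * g⁻¹) * k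
        simp only [Subgroup.coe_mul, Subgroup.coe_inv]
        show _ = (k : G)⁻¹ * (g * (k * (e : G) * ((π ^ i : K) : G) * (k * (e : G))⁻¹) * g⁻¹) * k
        group
      obtain ⟨j, hj⟩ := hx'
      obtain ⟨y₀, hy₀⟩ := honly (ψ (e * π * e⁻¹))
        (fun h0 => hπ1 (conj_eq_one_iff.mp (hψ (h0.trans (map_one ψ).symm))))
        (by rw [← map_pow, conj_pow, hπp]; simp)
      have hπx : ψ π • x₀ = x₀ := hπS
      have he1 : ψ (e * π * e⁻¹) • (ψ e • x₀) = ψ e • x₀ := by
        rw [← mul_smul, ← map_mul, inv_mul_cancel_right, map_mul, mul_smul, hπx]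
      have he2 : ψ (e * π * e⁻¹) • (ψ x⁻¹ • ψ e • x₀) = ψ x⁻¹ • ψ e • x₀ := by
        have h1 : e * π * e⁻¹ * x⁻¹ = x⁻¹ * (e * π ^ j * e⁻¹) := by rw [← hj]; group
        have h2 : ψ (π ^ j) • x₀ = x₀ := S₀.zpow_mem hπS j
        rw [← mul_smul, ← map_mul, h1, map_mul, mul_smul, ← mul_smul (ψ (e * π ^ j * e⁻¹)),
          ← map_mul, inv_mul_cancel_right, map_mul, mul_smul, h2]
      have h3 := (hy₀ _ he2).trans (hy₀ _ he1).symm
      rw [map_inv, inv_smul_eq_iff] at h3
      exact h3.symm
    -- the centraliser part of `A` has odd order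
    have hKC : ∀ z ∈ K, z ∈ C → z = 1 := by
      intro z hzK hzC
      let Z : Subgroup K := Subgroup.center K
      haveI : Group.IsSolvable Z := Group.isSolvable_of_comm fun a b =>
        Subtype.ext ((Subgroup.mem_center_iff.mp b.2) a)
      have hZ := eq_bot_of_normal_normal hrad M.normalCore Z inferInstance inferInstance
      have hzZ : (⟨z, hzK⟩ : K) ∈ Z := Subgroup.mem_center_iff.mpr fun k =>
        Subtype.ext (Subgroup.mem_centralizer_iff.mp hzC k k.2)
      rw [hZ, Subgroup.mem_bot] at hzZ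
      exact congrArg Subtype.val hzZ
    have hCodd : Odd (Nat.card ↥(A ⊓ C)) := by
      by_contra hev
      rw [Nat.not_odd_iff_even] at hev
      haveI := Fact.mk Nat.prime_two
      obtain ⟨i, hi⟩ := exists_prime_orderOf_dvd_card' (G := ↥(A ⊓ C)) 2 hev.two_dvd
      have heven : 2 ∣ Nat.card ↥(A ⊓ K) := by
        have : Nat.card ↥(A ⊓ K) = Nat.card ((M ⧸ R) ⧸ B₀) := by
          refine Nat.card_congr (Equiv.ofBijective (fun d : ↥(A ⊓ K) => ψ ⟨d, d.2.2⟩ • x₀) ⟨?_, ?_⟩)
          · intro a b e
            have e' : ψ ⟨a, a.2.2⟩ • x₀ = ψ ⟨b, b.2.2⟩ • x₀ := e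
            have h := hdfree (⟨a, a.2.2⟩⁻¹ * ⟨b, b.2.2⟩) (A.mul_mem (A.inv_mem a.2.1) b.2.1) (by
              rw [map_mul, map_inv, mul_smul, ← e', inv_smul_smul])
            rw [inv_mul_eq_one] at h
            exact Subtype.ext (congrArg Subtype.val h :)
          · intro y
            obtain ⟨d, hd, rfl⟩ := htrans y
            exact ⟨⟨d, hd, d.2⟩, rfl⟩
        rw [this, Nat.card_eq_fintype_card, hgood.hcard]
        exact ((hp.odd_of_ne_two hgood.hp2).add_one).two_dvd
      obtain ⟨j, hj⟩ := exists_prime_orderOf_dvd_card' (G := ↥(A ⊓ K)) 2 heven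
      have hii : (i : G) * i = 1 := by
        have := pow_orderOf_eq_one i
        rw [hi, pow_two] at this
        exact congrArg Subtype.val this
      have hjj : (j : G) * j = 1 := by
        have := pow_orderOf_eq_one j
        rw [hj, pow_two] at this
        exact congrArg Subtype.val this
      have hi1 : (i : G) ≠ 1 := fun e => by
        rw [show i = 1 from Subtype.ext e, orderOf_one] at hi; exact absurd hi (by norm_num)
      have hj1 : (j : G) ≠ 1 := fun e => by
        rw [show j = 1 from Subtype.ext e, orderOf_one] at hj; exact absurd hj (by norm_num)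
      have h := eq_of_involutions (x := (⟨i, i.2.1⟩ : A)) (y := ⟨j, j.2.1⟩)
        (fun e => hi1 (congrArg Subtype.val e)) (Subtype.ext hii)
        (fun e => hj1 (congrArg Subtype.val e)) (Subtype.ext hjj)
      have h' : (i : G) = j := congrArg Subtype.val h
      exact hi1 (hKC i (h' ▸ j.2.2) i.2.2)
    -- so the quotient by the core is solvable, hence so is the centraliser
    haveI : Group.IsSolvable (G ⧸ K) := by
      set A' := (A ⊓ C).map (QuotientGroup.mk' K) with hA'
      set B' := B.map (QuotientGroup.mk' K) with hB'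
      haveI : IsZGroup B' := IsZGroup.of_surjective (f := (QuotientGroup.mk' K).subgroupMap _)
        (MonoidHom.subgroupMap_surjective _ _)
      refine isSolvable_of_odd_mul A' B' (fun x => ?_)
        (hCodd.of_dvd_nat (Subgroup.card_map_dvd _ _))
      obtain ⟨g, rfl⟩ := QuotientGroup.mk'_surjective K x
      obtain ⟨a, ha, b, hb, rfl⟩ := hAB g
      obtain ⟨d, hd, hdC⟩ := hfactor a ha
      refine ⟨_, Subgroup.mem_map_of_mem _ (show (d : G)⁻¹ * a ∈ A ⊓ C from
        ⟨A.mul_mem (A.inv_mem hd) ha, hdC⟩), _, Subgroup.mem_map_of_mem _ hb, ?_⟩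
      rw [← map_mul]
      rw [show a * b = (d : G) * ((d : G)⁻¹ * a * b) by group, map_mul,
        show (QuotientGroup.mk' K) (d : G) = 1 from (QuotientGroup.eq_one_iff _).mpr d.2, one_mul]
    haveI : Group.IsSolvable C := Group.isSolvable_of_isSolvable_injective
      (f := (QuotientGroup.mk' K).comp C.subtype) (by
        rw [← MonoidHom.ker_eq_bot_iff, Subgroup.eq_bot_iff_forall]
        intro c hc
        exact Subtype.ext (hKC c ((QuotientGroup.eq_one_iff _).mp hc) c.2))
    haveI : C.Normal := by rw [hC]; infer_instance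
    have hC0 : C = ⊥ := hrad C inferInstance inferInstance
    refine hMmax.1 (Subgroup.eq_top_iff' M |>.mpr fun g => ?_)
    obtain ⟨a, ha, b, hb, rfl⟩ := hAB g
    obtain ⟨d, hd, hdC⟩ := hfactor a ha
    rw [hC0, Subgroup.mem_bot, inv_mul_eq_one] at hdC
    exact M.mul_mem (hdC ▸ M.normalCore_le d.2) (hBM hb)

end CfsgLib.Factorization.CyclicZ
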